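import Cfsg.Agent.Chev.GTwoOdd.Cent

/-! The involutions of `G₂` in odd characteristic form one class. -/

set_option autoImplicit false

open Cfsg.Lie

namespace Cfsg.Lib.GTwoOdd

open Cfsg.Lib.Chev
open Cfsg.Lib.GTwoInv (S2 half_eq x i0 i1 words wv wv_lt exists_word_rep)

variable {F : Type*} [Field F]

local notation "SL2F" => Matrix.SpecialLinearGroup (Fin 2) F
local notation "GL2F" => GL (Fin 2) F

/-- The companion matrix of `X² - z`. -/
def Nz (z : Fˣ) : GL2F where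
  val := !![0, (z : F); 1, 0]
  inv := !![0, 1; (z : F)⁻¹, 0]
  val_inv := by ext i j; fin_cases i <;> fin_cases j <;> simp [Matrix.mul_apply, Fin.sum_univ_two]
  inv_val := by ext i j; fin_cases i <;> fin_cases j <;> simp [Matrix.mul_apply, Fin.sum_univ_two]

theorem Nz_val (z : Fˣ) : (Nz z : Matrix (Fin 2) (Fin 2) F) = !![0, (z : F); 1, 0] := rfl
theorem glD_val (a b : Fˣ) : (glD a b : Matrix (Fin 2) (Fin 2) F) = !![(a : F), 0; 0, (b : F)] := rfl

theorem dl_Nz (z : Fˣ) : dl (Nz z) = -z := by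
  apply Units.ext; rw [dl_val]; simp [Nz_val]

theorem Nz_sq (z : Fˣ) : Nz z * Nz z = glD z z := by
  apply Units.ext
  rw [Units.val_mul, Nz_val, glD_val]
  ext i j
  fin_cases i <;> fin_cases j <;> simp [Matrix.mul_apply, Fin.sum_univ_two]

theorem glD_inj {a b : Fˣ} (h : glD a a = glD b b) : a = b := by
  have := congrArg (fun g : GL2F => (g : Matrix (Fin 2) (Fin 2) F) 0 0) h
  exact Units.ext (by simpa [glD_val] using this)

theorem glD_comm (a : Fˣ) (A : GL2F) : glD a a * A = A * glD a a := by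
  apply Units.ext
  rw [Units.val_mul, Units.val_mul, glD_val]
  ext i j
  fin_cases i <;> fin_cases j <;> simp [Matrix.mul_apply, Fin.sum_univ_two, mul_comm]

variable [Fintype F]

theorem exists_norm (hodd : Odd (Fintype.card F)) (z : Fˣ) (r : F) : ∃ a b : F, a ^ 2 - (z : F) * b ^ 2 = r := by
  obtain ⟨a, b, h⟩ := FiniteField.exists_root_sum_quadratic (R := F)
    (f := Polynomial.X ^ 2 - Polynomial.C r) (g := Polynomial.C (-(z : F)) * Polynomial.X ^ 2)
    (Polynomial.degree_X_pow_sub_C (by norm_num) r)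
    (Polynomial.degree_C_mul_X_pow 2 (neg_ne_zero.2 z.ne_zero)) (Nat.odd_iff.1 hodd)
  refine ⟨a, b, ?_⟩
  simp at h
  linear_combination h

/-- A matrix squaring to a scalar is conjugate to a companion matrix by an element of any
prescribed determinant, unless it is a scalar. -/
theorem exists_conj_Nz (hodd : Odd (Fintype.card F)) [NeZero (2 : F)] {A : GL2F} {z : Fˣ}
    (hA : A * A = glD z z) (hns : ∀ c : Fˣ, A ≠ glD c c) (r : Fˣ) :
    ∃ Q : GL2F, dl Q = r ∧ A = Q * Nz z * Q⁻¹ := by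
  have hsq := congrArg (fun g : GL2F => (g : Matrix (Fin 2) (Fin 2) F)) hA
  have s00 := congrFun (congrFun hsq 0) 0
  have s01 := congrFun (congrFun hsq 0) 1
  have s10 := congrFun (congrFun hsq 1) 0
  have s11 := congrFun (congrFun hsq 1) 1
  simp [Matrix.mul_apply, Fin.sum_univ_two, glD_val] at s00 s01 s10 s11
  set a := (A : Matrix (Fin 2) (Fin 2) F) 0 0 with ha
  set b := (A : Matrix (Fin 2) (Fin 2) F) 0 1 with hb
  set c := (A : Matrix (Fin 2) (Fin 2) F) 1 0 with hc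
  set d := (A : Matrix (Fin 2) (Fin 2) F) 1 1 with hd
  have htr : d = -a := by
    by_contra h
    have h' : a + d ≠ 0 := fun e => h (by linear_combination e)
    have hb0 : b = 0 := (mul_eq_zero.1 (show b * (a + d) = 0 by linear_combination s01)).resolve_right h'
    have hc0 : c = 0 := (mul_eq_zero.1 (show c * (a + d) = 0 by linear_combination s10)).resolve_right h'
    rw [hb0] at s00 s11
    have had : a = d := by
      have : (a - d) * (a + d) = 0 := by linear_combination s00 - s11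
      exact sub_eq_zero.1 ((mul_eq_zero.1 this).resolve_right h')
    have ha0 : a ≠ 0 := fun e => h' (by rw [← had, e, add_zero])
    refine hns (Units.mk0 a ha0) ?_
    apply Units.ext
    ext i j
    fin_cases i <;> fin_cases j <;> simp [glD_val, ← ha, ← hb, ← hc, ← hd, hb0, hc0, had]
  -- a vector and its image form a basis
  obtain ⟨v₀, v₁, hdet⟩ : ∃ v₀ v₁ : F, v₀ * (c * v₀ + d * v₁) - (a * v₀ + b * v₁) * v₁ ≠ 0 := by
    by_cases hc0 : c = 0
    · by_cases hb0 : b = 0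
      · refine ⟨1, 1, ?_⟩
        have ha0 : a ≠ 0 := fun e => z.ne_zero (by rw [← s00, e, hb0]; ring)
        rw [hc0, hb0, htr]
        intro e
        exact mul_ne_zero two_ne_zero ha0 (by linear_combination -e)
      · exact ⟨0, 1, by simpa using hb0⟩
    · exact ⟨1, 0, by simpa using hc0⟩
  set m₀ := a * v₀ + b * v₁ with hm₀
  set m₁ := c * v₀ + d * v₁ with hm₁
  obtain ⟨p, q, hpq⟩ := exists_norm hodd z ((r : F) / (v₀ * m₁ - m₀ * v₁))
  have hpq' : (v₀ * m₁ - m₀ * v₁) * (p ^ 2 - (z : F) * q ^ 2) = (r : F) := by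
    rw [hpq, mul_div_cancel₀ _ hdet]
  let M : Matrix (Fin 2) (Fin 2) F :=
    !![v₀ * p + m₀ * q, v₀ * ((z : F) * q) + m₀ * p; v₁ * p + m₁ * q, v₁ * ((z : F) * q) + m₁ * p]
  have hM : M.det = (r : F) := by
    rw [Matrix.det_fin_two, ← hpq']; simp [M]; ring
  refine ⟨Matrix.GeneralLinearGroup.mkOfDetNeZero M (hM ▸ r.ne_zero), ?_, ?_⟩
  · exact Units.ext ((Matrix.GeneralLinearGroup.val_det_apply _).trans hM)
  · rw [eq_mul_inv_iff_mul_eq]
    apply Units.ext
    rw [Units.val_mul, Units.val_mul]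
    show (A : Matrix (Fin 2) (Fin 2) F) * M = M * _
    rw [Nz_val]
    ext i j
    fin_cases i <;> fin_cases j <;>
      simp [M, Matrix.mul_apply, Fin.sum_univ_two, ← ha, ← hb, ← hc, ← hd, hm₀, hm₁, htr] <;>
      first
        | ring1
        | linear_combination v₀ * q * s00
        | linear_combination v₁ * q * s00
        | linear_combination v₀ * p * s00
        | linear_combination v₁ * p * s00

/-- Conjugate to the fixed involution. -/
def Hc (g : GL chevG2.Idx F) : Prop := ∃ a ∈ chevG2.group F, a * g * a⁻¹ = hh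

theorem Hc.of_conj {g k a : GL chevG2.Idx F} (ha : a ∈ chevG2.group F) (h : a * g * a⁻¹ = k) (hk : Hc k) :
    Hc g := by
  obtain ⟨b, hb, e⟩ := hk
  exact ⟨b * a, mul_mem hb ha, by rw [← e, ← h]; group⟩

theorem Hc.conj {g a : GL chevG2.Idx F} (ha : a ∈ chevG2.group F) (hk : Hc g) : Hc (a * g * a⁻¹) :=
  Hc.of_conj (inv_mem ha) (by group) hk

theorem Hc.of_conj' {p q : ↥(Pairs F)} (r : ↥(Pairs F)) (h : Phi p = Phi (r * q * r⁻¹)) (hq : Hc (Phi q)) :
    Hc (Phi p) := by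
  rw [h, map_mul, map_mul, map_inv]
  exact Hc.conj (Subgroup.mem_inf.1 (Phi_mem r)).1 hq

/-- The pair of companion matrices. -/
def pN (z : Fˣ) : ↥(Pairs F) := ⟨(Nz z, Nz z), mem_Pairs.2 rfl⟩

/-- The pair of equal scalars. -/
def pS (a : Fˣ) : ↥(Pairs F) := ⟨(glD a a, glD a a), mem_Pairs.2 rfl⟩

theorem Phi_pS (a : Fˣ) : Phi (pS a) = 1 := (Phi_eq_one_iff _).2 ⟨a, rfl⟩

theorem to_pN (hodd : Odd (Fintype.card F)) [NeZero (2 : F)] {p : ↥(Pairs F)} {z : Fˣ}
    (hinv : Phi p * Phi p = 1) (hA : p.1.1 * p.1.1 = glD z z) (hns : ∀ c : Fˣ, p.1.1 ≠ glD c c) :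
    ∃ r : ↥(Pairs F), p = r * pN z * r⁻¹ := by
  rw [← map_mul] at hinv
  obtain ⟨a, ha⟩ := (Phi_eq_one_iff _).1 hinv
  have ha1 : p.1.1 * p.1.1 = glD a a := (congrArg Prod.fst ha)
  have hB : p.1.2 * p.1.2 = glD z z := by
    rw [glD_inj (hA.symm.trans ha1)]; exact congrArg Prod.snd ha
  obtain ⟨Q₁, hQ₁, e₁⟩ := exists_conj_Nz hodd hA hns 1
  have hd : dl p.1.2 = -z := by
    rw [show dl p.1.2 = dl p.1.1 from (mem_Pairs.1 p.2).symm, e₁, map_mul, map_mul, map_inv, hQ₁, dl_Nz]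
    simp
  have hns2 : ∀ c : Fˣ, p.1.2 ≠ glD c c := fun c hc => by
    rw [hc, dl_glD] at hd
    have h2 : glD (c * c) (c * c) = glD z z := by
      rw [← hB, hc]
      apply Units.ext
      rw [Units.val_mul, glD_val, glD_val]
      ext i j
      fin_cases i <;> fin_cases j <;> simp [Matrix.mul_apply, Fin.sum_univ_two]
    rw [glD_inj h2] at hd
    have h3 : (2 : F) * (z : F) = 0 := by
      have := congrArg (fun u : Fˣ => (u : F)) hd
      simp at this
      linear_combination this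
    exact mul_ne_zero two_ne_zero z.ne_zero h3
  obtain ⟨Q₂, hQ₂, e₂⟩ := exists_conj_Nz hodd hB hns2 1
  exact ⟨⟨(Q₁, Q₂), mem_Pairs.2 (hQ₁.trans hQ₂.symm)⟩, Subtype.ext (Prod.ext e₁ e₂)⟩

theorem pN_sq (z : Fˣ) : Phi (pN z) * Phi (pN z) = 1 := by
  rw [← map_mul]
  exact (Phi_eq_one_iff _).2 ⟨z, Prod.ext (Nz_sq z) (Nz_sq z)⟩

theorem hc_scale {z : Fˣ} (s : Fˣ) (h : Hc (Phi (pN z))) : Hc (Phi (pN (z * s ^ 2))) := by
  let r : ↥(Pairs F) := ⟨(glD s 1, glD s 1), mem_Pairs.2 rfl⟩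
  refine Hc.of_conj' (q := pS s * pN z) r ?_ (by rw [map_mul, Phi_pS, one_mul]; exact h)
  congr 1
  have e : Nz (z * s ^ 2) = glD s 1 * (glD s s * Nz z) * (glD s 1)⁻¹ := by
    rw [eq_mul_inv_iff_mul_eq]
    apply Units.ext
    simp only [Units.val_mul, Nz_val, glD_val]
    ext i j
    fin_cases i <;> fin_cases j <;> simp [Matrix.mul_apply, Fin.sum_univ_two] <;> ring
  exact Subtype.ext (Prod.ext e e)

theorem hc_T_neg : Hc (T (-1, -1) : GL chevG2.Idx F) := by
  obtain ⟨q, hq, hr⟩ := conj_T (S2.nL_mem_mono [i1]) (S2.act_nL (F := F) [i1]) (1, -1)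
  obtain ⟨k6, k8⟩ := (show wv [i1] 6 = 5 ∧ wv [i1] 8 = 7 by decide +kernel)
  have h6 := hr ⟨6, half_eq.2.symm ▸ (by norm_num)⟩
  have h8 := hr ⟨8, half_eq.2.symm ▸ (by norm_num)⟩
  rw [act_eq (by norm_num) k6] at h6
  rw [act_eq (by norm_num) k8] at h8
  simp only [show cA 5 = 0 by decide +kernel, show cB 5 = -1 by decide +kernel, show cA 7 = 1 by decide +kernel,
    show cB 7 = 0 by decide +kernel, show cA 6 = 0 by decide +kernel, show cB 6 = 1 by decide +kernel,
    show cA 8 = 1 by decide +kernel, show cB 8 = 1 by decide +kernel, zpow_zero, zpow_one, one_mul, mul_one,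
    zpow_neg_one] at h6 h8
  have e : q = (-1, -1) := Prod.ext h8 (by rw [inv_eq_iff_eq_inv] at h6; simpa using h6)
  rw [← e, ← hq]
  exact Hc.conj (S2.mono_le_group (S2.nL_mem_mono _)) ⟨1, one_mem _, by simp [hh]⟩

theorem hc_one (hodd : Odd (Fintype.card F)) [NeZero (2 : F)] : Hc (Phi (pN (1 : Fˣ))) := by
  have e : Phi (dP (-1) (-1) (-1) : ↥(Pairs F)) = T (-1, -1) := by
    rw [Phi_dP]
    congr 1
    refine Prod.ext ?_ ?_ <;> apply Units.ext <;> simp [pow_succ]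
  have h1 : Phi (dP (-1) (-1) (-1) : ↥(Pairs F)) * Phi (dP (-1) (-1) (-1)) = 1 := by
    rw [e, ← map_mul, ← map_one T]
    congr 1
    refine Prod.ext ?_ ?_ <;> apply Units.ext <;> simp
  have h2 : (dP (-1) (-1) (-1) : ↥(Pairs F)).1.1 * (dP (-1) (-1) (-1) : ↥(Pairs F)).1.1 = glD 1 1 := by
    apply Units.ext
    simp only [dP, Units.val_mul, glD_val]
    ext i j
    fin_cases i <;> fin_cases j <;> simp [Matrix.mul_apply, Fin.sum_univ_two]
  have h3 : ∀ c : Fˣ, (dP (-1) (-1) (-1) : ↥(Pairs F)).1.1 ≠ glD c c := fun c hc => by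
    have e0 := congrArg (fun g : GL2F => (g : Matrix (Fin 2) (Fin 2) F) 0 0) hc
    have e1 := congrArg (fun g : GL2F => (g : Matrix (Fin 2) (Fin 2) F) 1 1) hc
    simp [dP, glD_val] at e0 e1
    exact two_ne_zero (α := F) (by linear_combination e0 - e1)
  obtain ⟨r, hr⟩ := to_pN hodd h1 h2 h3
  refine Hc.of_conj' (q := dP (-1) (-1) (-1)) r⁻¹ ?_ (e ▸ hc_T_neg)
  congr 1
  rw [hr]; group

theorem Phi_pN_one_act :
    Phi (pN (1 : Fˣ)) ∈ chevG2.monomialSubgroup F ∧
      Act S2.ok (Phi (pN (1 : Fˣ))) (S2.wpL (i0 :: W2)) := by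
  have hs : sA (Nz (1 : Fˣ)) = wM := by
    apply mat_inj
    rw [mat_sA, dl_Nz, mat_wM, Nz_val]
    ext i j
    fin_cases i <;> fin_cases j <;> simp
  have e : Phi (pN (1 : Fˣ)) = f1 wM * f2 wM * tau (-1) := by
    rw [Phi_apply]; simp [pN, hs, dl_Nz]
  have hd : tau (-1 : Fˣ) ∈ chevG2.diagonalSubgroup F := T_mem_diag _
  have a1 : Act S2.ok (f1 (wM : SL2F)) (S2.wpL [i0]) := f1_wM (F := F) ▸ S2.act_nL [i0]
  refine ⟨?_, ?_⟩
  · rw [e]
    refine mul_mem (mul_mem (f1_wM (F := F) ▸ S2.nL_mem_mono [i0]) f2_wM_mono) ?_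
    exact ((S2.B_inf_N (F := F)).ge hd).2
  · rw [e]
    simpa [Struct.wpL] using S2.act_mul (S2.act_mul a1 (f2_wM_act (F := F))) (S2.act_diag hd)

theorem conj_w0 : (List.range 12).map (wv ([i1] ++ (i0 :: W2))) =
    (List.range 12).map (wv ((i0 :: W2) ++ [i1])) := by decide +kernel

theorem nonsquare_mul [DecidableEq F] (hodd : Odd (Fintype.card F)) {a b : Fˣ} (ha : ¬ IsSquare (a : F))
    (hb : ¬ IsSquare (b : F)) : ∃ s : Fˣ, b = a * s ^ 2 := by
  have hF : ringChar F ≠ 2 := fun h =>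
    absurd ((Nat.odd_iff.1 hodd).symm.trans (FiniteField.even_card_of_char_two h))
      (by norm_num)
  have h1 : quadraticChar F ((a : F) * (b : F)) = 1 := by
    rw [map_mul, quadraticChar_neg_one_iff_not_isSquare.2 ha, quadraticChar_neg_one_iff_not_isSquare.2 hb]
    norm_num
  obtain ⟨t, ht⟩ := (quadraticChar_one_iff_isSquare (mul_ne_zero a.ne_zero b.ne_zero)).1 h1
  have ht0 : t ≠ 0 := fun e => mul_ne_zero a.ne_zero b.ne_zero (by rw [ht, e, mul_zero])
  refine ⟨Units.mk0 t ht0 / a, Units.ext ?_⟩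
  push_cast
  rw [Units.val_mk0]
  field_simp
  linear_combination ht

theorem hc_all (hodd : Odd (Fintype.card F)) [NeZero (2 : F)] (z : Fˣ) : Hc (Phi (pN z)) := by
  classical
  have h1 := hc_one (F := F) hodd
  by_cases hz : IsSquare (z : F)
  · obtain ⟨s, hs⟩ := hz
    have hs0 : s ≠ 0 := fun e => z.ne_zero (by rw [hs, e, mul_zero])
    have e : z = 1 * Units.mk0 s hs0 ^ 2 := Units.ext (by simp [hs, sq])
    rw [e]; exact hc_scale _ h1
  obtain ⟨hxm, hxa⟩ := Phi_pN_one_act (F := F)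
  set m : GL chevG2.Idx F := S2.nL F [i1] with hm
  have hmm : m ∈ chevG2.monomialSubgroup F := S2.nL_mem_mono _
  have hmG : m ∈ chevG2.group F := S2.mono_le_group hmm
  set y := m * Phi (pN (1 : Fˣ)) * m⁻¹ with hy
  -- `y` differs from the first element by a torus element
  obtain ⟨L, hL, hiff⟩ := S2.exists_act (mul_mem (mul_mem (mul_mem hmm hxm) (inv_mem hmm)) (inv_mem hxm))
  have hw : S2.wpL L = 1 := by
    have e1 := S2.act_mul (S2.act_mul hL hxa) (S2.act_nL (F := F) [i1])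
    rw [inv_mul_cancel_right, inv_mul_cancel_right] at e1
    have e2 := S2.act_unique e1 (S2.act_mul (S2.act_nL (F := F) [i1]) hxa)
    have e3 : S2.wpL [i1] * S2.wpL (i0 :: W2) = S2.wpL (i0 :: W2) * S2.wpL [i1] := by
      simpa [Struct.wpL, mul_assoc] using wpL_ext conj_w0
    rw [e3, mul_assoc] at e2
    exact mul_eq_right.1 e2
  obtain ⟨⟨u, v⟩, huv⟩ := exists_T (hiff.1 hw)
  have hyeq : y = Phi (dP 1 (u * v) u * pN 1) := by
    rw [map_mul, Phi_dP, ← mul_inv_eq_iff_eq_mul, huv]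
    congr 1
    refine Prod.ext ?_ ?_ <;> apply Units.ext <;> simp <;> field_simp
  have hA : (dP 1 (u * v) u * pN 1 : ↥(Pairs F)).1.1 = Nz u := by
    apply Units.ext
    simp only [dP, pN, Subgroup.coe_mul, Prod.fst_mul, Units.val_mul, glD_val, Nz_val]
    ext i j
    fin_cases i <;> fin_cases j <;> simp [Matrix.mul_apply, Fin.sum_univ_two]
  have hns : ∀ (w c : Fˣ), Nz w ≠ glD c c := fun w c hc => by
    have := congrArg (fun g : GL2F => (g : Matrix (Fin 2) (Fin 2) F) 1 0) hc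
    simp [Nz_val, glD_val] at this
  have hyy : y * y = 1 := by
    rw [hy, show m * Phi (pN 1) * m⁻¹ * (m * Phi (pN 1) * m⁻¹) = m * (Phi (pN 1) * Phi (pN 1)) * m⁻¹ by group,
      pN_sq, mul_one, mul_inv_cancel]
  have hu : Hc (Phi (pN u)) := by
    obtain ⟨r, hr⟩ := to_pN hodd (p := dP 1 (u * v) u * pN 1) (z := u) (hyeq ▸ hyy) (by rw [hA, Nz_sq])
      (by rw [hA]; exact hns u)
    refine Hc.of_conj' (q := dP 1 (u * v) u * pN 1) r⁻¹ ?_ (hyeq ▸ Hc.conj hmG h1)
    congr 1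
    rw [hr]; group
  by_cases hus : IsSquare (u : F)
  swap
  · obtain ⟨s, hs⟩ := nonsquare_mul hodd hus hz
    rw [hs]; exact hc_scale _ hu
  -- now shift by a torus element centralising the first element modulo squares
  set x' := (pN 1 * dP 1 z 1 : ↥(Pairs F)) with hx'
  have hx'A : x'.1.1 = Nz 1 := by
    apply Units.ext
    simp only [hx', dP, pN, Subgroup.coe_mul, Prod.fst_mul, Units.val_mul, glD_val, Nz_val]
    ext i j
    fin_cases i <;> fin_cases j <;> simp [Matrix.mul_apply, Fin.sum_univ_two]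
  have hx'sq : Phi x' * Phi x' = 1 := by
    rw [← map_mul]
    refine (Phi_eq_one_iff _).2 ⟨1, Prod.ext ?_ ?_⟩ <;> apply Units.ext <;>
      simp only [hx', dP, pN, Subgroup.coe_mul, Prod.fst_mul, Prod.snd_mul, Units.val_mul, glD_val, Nz_val] <;>
      ext i j <;> fin_cases i <;> fin_cases j <;> simp [Matrix.mul_apply, Fin.sum_univ_two]
  have hx'c : Hc (Phi x') := by
    obtain ⟨r, hr⟩ := to_pN hodd hx'sq (by rw [hx'A, Nz_sq]) (by rw [hx'A]; exact hns 1)
    exact Hc.of_conj' r (congrArg Phi hr) h1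
  obtain ⟨q, hq, hrq⟩ := conj_T hmm (S2.act_nL (F := F) [i1]) (1, z)
  obtain ⟨k6, k8⟩ := (show wv [i1] 6 = 5 ∧ wv [i1] 8 = 7 by decide +kernel)
  have h6 := hrq ⟨6, half_eq.2.symm ▸ (by norm_num)⟩
  have h8 := hrq ⟨8, half_eq.2.symm ▸ (by norm_num)⟩
  rw [act_eq (by norm_num) k6] at h6
  rw [act_eq (by norm_num) k8] at h8
  simp only [show cA 5 = 0 by decide +kernel, show cB 5 = -1 by decide +kernel, show cA 7 = 1 by decide +kernel,
    show cB 7 = 0 by decide +kernel, show cA 6 = 0 by decide +kernel, show cB 6 = 1 by decide +kernel,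
    show cA 8 = 1 by decide +kernel, show cB 8 = 1 by decide +kernel, zpow_zero, zpow_one, one_mul, mul_one,
    zpow_neg_one] at h6 h8
  have hy' : Phi (dP 1 (u * v) u * pN 1 * dP 1 1 z) = m * Phi x' * m⁻¹ := by
    rw [map_mul, ← hyeq, hy, hx', map_mul, Phi_dP, Phi_dP,
      show m * (Phi (pN 1) * T (1 ^ 2 * 1, (1 ^ 3)⁻¹ * z * 1⁻¹)) * m⁻¹ =
        (m * Phi (pN 1) * m⁻¹) * (m * T (1 ^ 2 * 1, (1 ^ 3)⁻¹ * z * 1⁻¹) * m⁻¹) by group]
    congr 1
    rw [show ((1 : Fˣ) ^ 2 * 1, ((1 : Fˣ) ^ 3)⁻¹ * z * 1⁻¹) = ((1 : Fˣ), z) by simp, hq]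
    congr 1
    exact Prod.ext (by simpa using h8.symm) (by rw [inv_eq_iff_eq_inv] at h6; simpa using h6.symm)
  have hA' : (dP 1 (u * v) u * pN 1 * dP 1 1 z : ↥(Pairs F)).1.1 *
      (dP 1 (u * v) u * pN 1 * dP 1 1 z : ↥(Pairs F)).1.1 = glD (u * z) (u * z) := by
    rw [Subgroup.coe_mul, Prod.fst_mul, hA]
    apply Units.ext
    simp only [dP, Units.val_mul, glD_val, Nz_val]
    ext i j
    fin_cases i <;> fin_cases j <;> simp [Matrix.mul_apply, Fin.sum_univ_two, mul_comm]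
  have hsq' : Phi (dP 1 (u * v) u * pN 1 * dP 1 1 z) * Phi (dP 1 (u * v) u * pN 1 * dP 1 1 z) = 1 := by
    rw [hy', show m * Phi x' * m⁻¹ * (m * Phi x' * m⁻¹) = m * (Phi x' * Phi x') * m⁻¹ by group, hx'sq, mul_one,
      mul_inv_cancel]
  have hns' : ∀ c : Fˣ, (dP 1 (u * v) u * pN 1 * dP 1 1 z : ↥(Pairs F)).1.1 ≠ glD c c := fun c hc => by
    rw [Subgroup.coe_mul, Prod.fst_mul, hA] at hc
    have := congrArg (fun g : GL2F => (g : Matrix (Fin 2) (Fin 2) F) 1 0) hc
    simp [dP, Nz_val, glD_val, Matrix.mul_apply, Fin.sum_univ_two] at this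
  obtain ⟨r, hr⟩ := to_pN hodd hsq' hA' hns'
  have huz : Hc (Phi (pN (u * z))) := by
    refine Hc.of_conj' (q := dP 1 (u * v) u * pN 1 * dP 1 1 z) r⁻¹ ?_ (hy' ▸ Hc.conj hmG hx'c)
    congr 1
    rw [hr]; group
  obtain ⟨s, hs⟩ := hus
  have hs0 : s ≠ 0 := fun e => u.ne_zero (by rw [hs, e, mul_zero])
  have e : z = u * z * (Units.mk0 s hs0)⁻¹ ^ 2 := by
    apply Units.ext
    push_cast
    rw [hs, Units.val_mk0]
    field_simp
  rw [e]; exact hc_scale _ huz

theorem hc_of_cent (hodd : Odd (Fintype.card F)) [NeZero (2 : F)] {g : GL chevG2.Idx F}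
    (hg : g ∈ chevG2.group F) (hc : hh * g = g * hh) (h2 : g * g = 1) (h1 : g ≠ 1) : Hc g := by
  obtain ⟨p, rfl⟩ := mem_range_of_commute hg hc
  have h2' := h2
  rw [← map_mul] at h2'
  obtain ⟨z, hz⟩ := (Phi_eq_one_iff _).1 h2'
  have hz1 : p.1.1 * p.1.1 = glD z z := congrArg Prod.fst hz
  have hz2 : p.1.2 * p.1.2 = glD z z := congrArg Prod.snd hz
  by_cases hns : ∀ c : Fˣ, p.1.1 ≠ glD c c
  · obtain ⟨r, hr⟩ := to_pN hodd h2 hz1 hns
    exact Hc.of_conj' r (congrArg Phi hr) (hc_all hodd z)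
  push Not at hns
  obtain ⟨c, hc1⟩ := hns
  have hzc : z = c * c := by
    have := congrArg (fun g : GL2F => (g : Matrix (Fin 2) (Fin 2) F) 0 0) hz1
    rw [hc1] at this
    simp [glD_val, Matrix.mul_apply, Fin.sum_univ_two] at this
    exact Units.ext (by push_cast; exact this.symm)
  have hd : dl p.1.2 = c * c := by
    rw [show dl p.1.2 = dl p.1.1 from (mem_Pairs.1 p.2).symm, hc1, dl_glD]
  have hB : ∃ d : Fˣ, p.1.2 = glD d d := by
    by_contra hB
    push Not at hB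
    obtain ⟨Q, hQ, e⟩ := exists_conj_Nz hodd hz2 hB 1
    rw [e, map_mul, map_mul, map_inv, hQ, dl_Nz, hzc] at hd
    have h3 : (2 : F) * ((c : F) * c) = 0 := by
      have := congrArg (fun u : Fˣ => (u : F)) hd
      simp at this
      linear_combination -this
    exact mul_ne_zero two_ne_zero (mul_ne_zero c.ne_zero c.ne_zero) h3
  obtain ⟨d, hd'⟩ := hB
  rw [hd', dl_glD] at hd
  have hdc : d = c ∨ d = -c := by
    have h3 : ((d : F) - c) * ((d : F) + c) = 0 := by
      have := congrArg (fun u : Fˣ => (u : F)) hd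
      simp at this
      linear_combination this
    rcases mul_eq_zero.1 h3 with h | h
    · exact Or.inl (Units.ext (sub_eq_zero.1 h))
    · exact Or.inr (Units.ext (by push_cast; linear_combination h))
  rcases hdc with rfl | rfl
  · exact absurd ((Phi_eq_one_iff _).2 ⟨d, Prod.ext hc1 hd'⟩) h1
  · have e : p = pS c * j2 (dM (-1)) := by
      refine Subtype.ext (Prod.ext ?_ ?_)
      · show p.1.1 = glD c c * 1
        rw [hc1, mul_one]
      · show p.1.2 = glD c c * toG (dM (-1))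
        rw [hd']
        apply Units.ext
        rw [Units.val_mul, toG_val, mat_dM, glD_val, glD_val]
        ext i j
        fin_cases i <;> fin_cases j <;> simp [Matrix.mul_apply, Fin.sum_univ_two]
    refine ⟨1, one_mem _, ?_⟩
    rw [e, map_mul, Phi_pS, Phi_j2, f2_dM, one_mul, one_mul, inv_one, mul_one]
    rfl

/-- The centralizer of `hh` inside the group. -/
noncomputable def CG (F : Type*) [Field F] : Subgroup ↥(chevG2.group F) :=
  Subgroup.centralizer {(⟨hh, hh_mem⟩ : ↥(chevG2.group F))}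

theorem CG_map [NeZero (2 : F)] :
    (CG F).map (chevG2.group F).subtype = (Phi (F := F)).range := by
  rw [range_eq]
  ext g
  simp only [CG, Subgroup.mem_map, Subgroup.mem_inf, Subgroup.mem_centralizer_singleton_iff,
    Subgroup.coe_subtype]
  constructor
  · rintro ⟨a, ha, rfl⟩
    exact ⟨a.2, congrArg Subtype.val ha⟩
  · rintro ⟨hg, hc⟩
    exact ⟨⟨g, hg⟩, Subtype.ext hc, rfl⟩

theorem card_CG [NeZero (2 : F)] :
    Nat.card ↥(CG F) = Fintype.card F ^ 2 * (Fintype.card F ^ 2 - 1) ^ 2 := by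
  rw [← card_range, ← CG_map, Subgroup.card_map_of_injective (Subtype.coe_injective)]

theorem neZero_two (hodd : Odd (Fintype.card F)) : NeZero (2 : F) :=
  ⟨Ring.two_ne_zero fun h =>
    absurd ((Nat.odd_iff.1 hodd).symm.trans (FiniteField.even_card_of_char_two h))
      (by norm_num)⟩

theorem conj_hh (hodd : Odd (Fintype.card F)) {t : ↥(chevG2.group F)} (ht : orderOf t = 2) :
    ∃ a : ↥(chevG2.group F), a * t * a⁻¹ = ⟨hh, hh_mem⟩ := by
  haveI := neZero_two hodd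
  haveI : Fact (Nat.Prime 2) := ⟨Nat.prime_two⟩
  classical
  have hindex : ¬ 2 ∣ (CG F).index := by
    have hq := Nat.odd_iff.1 hodd
    have h := Subgroup.card_mul_index (CG F)
    rw [card_CG, card_chevG2] at h
    set q := Fintype.card F with hqdef
    have hq2 : 2 ≤ q := Fintype.one_lt_card
    have e : (q ^ 2 - 1) * (q ^ 6 - 1) = (q ^ 2 - 1) ^ 2 * (q ^ 4 + q ^ 2 + 1) := by
      obtain ⟨k, hk⟩ : ∃ k, q ^ 2 = k + 1 := ⟨q ^ 2 - 1, (Nat.sub_add_cancel (Nat.one_le_pow _ _ (by omega))).symm⟩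
      have h6 : q ^ 6 = (q ^ 2) ^ 3 := by ring
      have h4 : q ^ 4 = (q ^ 2) ^ 2 := by ring
      rw [h6, h4, hk, Nat.add_sub_cancel,
        show (k + 1) ^ 3 = k * ((k + 1) ^ 2 + (k + 1) + 1) + 1 by ring, Nat.add_sub_cancel]
      ring
    rw [e] at h
    have hidx : (CG F).index = q ^ 4 * (q ^ 4 + q ^ 2 + 1) := by
      have h0 : q ^ 2 * (q ^ 2 - 1) ^ 2 ≠ 0 := by
        have : 4 ≤ q ^ 2 := by nlinarith
        have : q ^ 2 - 1 ≠ 0 := by omega
        positivity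
      exact mul_left_cancel₀ h0 (h.trans (by ring))
    rw [hidx, ← even_iff_two_dvd, Nat.not_even_iff_odd]
    exact hodd.pow.mul (((hodd.pow).add_odd hodd.pow).add_one)
  have htp : IsPGroup 2 (Subgroup.zpowers t) :=
    IsPGroup.of_card (n := 1) (by rw [Nat.card_zpowers, ht, pow_one])
  obtain ⟨Q₀⟩ : Nonempty (Sylow 2 ↥(CG F)) := inferInstance
  have hQ : ∃ Q : Sylow 2 ↥(chevG2.group F), (Q : Subgroup ↥(chevG2.group F)) ≤ CG F := by
    set R : Subgroup ↥(chevG2.group F) := (Q₀ : Subgroup ↥(CG F)).map (CG F).subtype with hR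
    have hRp : IsPGroup 2 R := Q₀.isPGroup'.map _
    have hidx : ¬ 2 ∣ R.index := by
      rw [hR, Subgroup.index_map_subtype, Nat.Prime.dvd_mul Nat.prime_two, not_or]
      exact ⟨Q₀.not_dvd_index, hindex⟩
    exact ⟨hRp.toSylow hidx, Subgroup.map_subtype_le _⟩
  obtain ⟨Q, hQ⟩ := hQ
  obtain ⟨P, hP⟩ := htp.exists_le_sylow
  obtain ⟨a, ha⟩ := MulAction.exists_smul_eq (↥(chevG2.group F)) P Q
  have hmem : a * t * a⁻¹ ∈ CG F := by
    refine hQ ?_
    rw [← ha, Sylow.coe_subgroup_smul]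
    exact Subgroup.smul_mem_pointwise_smul t (MulAut.conj a) _ (hP (Subgroup.mem_zpowers t))
  have hne : t ≠ 1 := fun e => by rw [e, orderOf_one] at ht; norm_num at ht
  have hsq : t * t = 1 := by rw [← sq, ← ht]; exact pow_orderOf_eq_one t
  obtain ⟨b, hb, e⟩ := hc_of_cent hodd (g := ((a * t * a⁻¹ : ↥(chevG2.group F)) : GL chevG2.Idx F))
    (a * t * a⁻¹).2 (congrArg Subtype.val (Subgroup.mem_centralizer_singleton_iff.1 hmem)).symm
    (by
      rw [← Subgroup.coe_mul,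
        show a * t * a⁻¹ * (a * t * a⁻¹) = a * (t * t) * a⁻¹ by group, hsq, mul_one, mul_inv_cancel]
      rfl)
    (fun e => hne (conj_eq_one_iff.1 (Subtype.ext e)))
  refine ⟨⟨b, hb⟩ * a, Subtype.ext ?_⟩
  show b * (a : GL chevG2.Idx F) * (t : GL chevG2.Idx F) * (b * (a : GL chevG2.Idx F))⁻¹ = hh
  rw [← e]
  push_cast
  group

end Cfsg.Lib.GTwoOdd
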