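import Cfsg.Agent.Chev.GTwoOdd.Levi

/-! The centralizer of an involution of the torus of `G₂` in odd characteristic. -/

set_option autoImplicit false

open Cfsg.Lie

namespace Cfsg.Lib.GTwoOdd

open Cfsg.Lib.Chev
open Cfsg.Lib.GTwoInv (S2 half_eq x i0 i1 words wv wv_lt exists_word_rep)

variable {F : Type*} [Field F]

local notation "SL2F" => Matrix.SpecialLinearGroup (Fin 2) F
local notation "GL2F" => GL (Fin 2) F

/-- The involution of the torus. -/
noncomputable def hh : GL chevG2.Idx F := T (1, -1)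

theorem hh_mem : (hh : GL chevG2.Idx F) ∈ chevG2.group F := T_mem_group _

theorem hh_conj {r : ℕ} (hr : r < 12) (t : F) :
    hh * x r t * (hh : GL chevG2.Idx F)⁻¹ = x r ((-1 : F) ^ cB r * t) := by
  rw [hh, T_conj hr]
  congr 2
  simp [Units.val_zpow_eq_zpow_val]

theorem f1_dM (s : Fˣ) : f1 (dM s) = T (s ^ 2, (s ^ 3)⁻¹) := by
  rw [dM_eq]
  simp only [map_mul, f1_uM, f1_lM]
  have h : S2.ok.hG (chevG2.simple (i0 : Fin chevG2.rank)) (s : F) =
      x 7 (s : F) * x 4 (-(s : F)⁻¹) * x 7 (s : F) * (x 7 (-1) * x 4 (-(-1 : F)⁻¹) * x 7 (-1)) := by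
    rw [simple0.1]; unfold Ok.hG Ok.nG; rw [simple0.2]; rfl
  rw [← h, S2.ok.hG_simple_eq_tG, T_apply]
  congr 1
  funext i
  rcases GTwoInv.fin_rank i with rfl | rfl
  · rw [Pi.mulSingle_eq_same]
    show s = (s ^ 2) ^ 2 * (s ^ 3)⁻¹
    apply Units.ext; push_cast; field_simp
  · rw [Pi.mulSingle_eq_of_ne (by decide)]
    show (1 : Fˣ) = (s ^ 2) ^ 3 * (s ^ 3)⁻¹ ^ 2
    apply Units.ext; push_cast; field_simp

theorem fb_dM (s : Fˣ) : fb (dM s) = T (s⁻¹, s ^ 2) := by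
  rw [dM_eq]
  simp only [map_mul, fb_uM, fb_lM]
  have h : S2.ok.hG (chevG2.simple (i1 : Fin chevG2.rank)) (s : F) =
      x 6 (s : F) * x 5 (-(s : F)⁻¹) * x 6 (s : F) * (x 6 (-1) * x 5 (-(-1 : F)⁻¹) * x 6 (-1)) := by
    rw [simple1.1]; unfold Ok.hG Ok.nG; rw [simple1.2]; rfl
  rw [← h, S2.ok.hG_simple_eq_tG, T_apply]
  congr 1
  funext i
  rcases GTwoInv.fin_rank i with rfl | rfl
  · rw [Pi.mulSingle_eq_of_ne (by decide)]
    show (1 : Fˣ) = s⁻¹ ^ 2 * s ^ 2
    apply Units.ext; push_cast; field_simp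
  · rw [Pi.mulSingle_eq_same]
    show s = s⁻¹ ^ 3 * (s ^ 2) ^ 2
    apply Units.ext; push_cast; field_simp

theorem conj_T {n : GL chevG2.Idx F} (hn : n ∈ chevG2.monomialSubgroup F) {w : Equiv.Perm (Fin chevG2.nroots)}
    (ha : Act S2.ok n w) (p : Fˣ × Fˣ) :
    ∃ q, n * T p * n⁻¹ = T q ∧ ∀ r : Fin chevG2.nroots,
      q.1 ^ cA (w r).val * q.2 ^ cB (w r).val = p.1 ^ cA r.val * p.2 ^ cB r.val := by
  obtain ⟨q, hq⟩ := exists_T (S2.norm_diag hn (T_mem_diag p))
  refine ⟨q, hq, fun r => ?_⟩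
  obtain ⟨-, c, hc, e⟩ := ha r
  have hr : r.val < 12 := half_eq.2 ▸ r.isLt
  have hwr : (w r).val < 12 := half_eq.2 ▸ (w r).isLt
  have h1 := T_conj hwr q (c * 1)
  rw [← hq] at h1
  have e1 : x (w r).val (c * 1) = n * x r.val (1 : F) * n⁻¹ := (e 1).1.symm
  rw [e1, show n * T p * n⁻¹ * (n * x r.val (1 : F) * n⁻¹) * (n * T p * n⁻¹)⁻¹ =
    n * (T p * x r.val (1 : F) * (T p)⁻¹) * n⁻¹ by group, T_conj hr] at h1
  have e2 : x (w r).val (c * (((p.1 ^ cA r.val * p.2 ^ cB r.val : Fˣ) : F) * 1)) =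
      n * x r.val (((p.1 ^ cA r.val * p.2 ^ cB r.val : Fˣ) : F) * 1) * n⁻¹ := (e _).1.symm
  rw [← e2] at h1
  have h2 := x_inj hwr h1
  simp only [mul_one] at h2
  exact Units.ext (mul_left_cancel₀ hc (h2.trans (mul_comm _ _))).symm

theorem act_eq {L : List (Fin chevG2.rank)} {r r' : ℕ} (hr : r < 12) (h : wv L r = r') :
    (S2.wpL L ⟨r, half_eq.2.symm ▸ hr⟩).val = r' := by
  rw [← S2.wWord_eq]; exact h

theorem f2_dM (s : Fˣ) : f2 (dM s) = T (1, s) := by
  obtain ⟨q, hq, hr⟩ := conj_T (S2.nL_mem_mono [i1, i0]) (S2.act_nL (F := F) [i1, i0]) (s⁻¹, s ^ 2)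
  rw [f2_apply, fb_dM, nw, hq]
  have h11 := hr ⟨6, half_eq.2.symm ▸ (by norm_num)⟩
  rw [act_eq (by norm_num) wv_nw.1] at h11
  obtain ⟨r7, hr7, h7⟩ := (show ∃ r < 12, wv [i1, i0] r = 7 ∧ -1 * cA r + 2 * cB r = 0 by decide +kernel)
  have h7' := hr ⟨r7, half_eq.2.symm ▸ hr7⟩
  rw [act_eq hr7 h7.1, show cA 7 = 1 by decide +kernel, show cB 7 = 0 by decide +kernel] at h7'
  rw [show cA 11 = 3 by decide +kernel, show cB 11 = 2 by decide +kernel, show cA 6 = 0 by decide +kernel,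
    show cB 6 = 1 by decide +kernel] at h11
  have hq1 : q.1 = 1 := by
    simp only [zpow_one, zpow_zero, mul_one] at h7'
    rw [h7', show (s⁻¹ : Fˣ) = s ^ (-1 : ℤ) by simp, show (s ^ 2 : Fˣ) = s ^ (2 : ℤ) by norm_cast,
      ← zpow_mul, ← zpow_mul, ← zpow_add, h7.2, zpow_zero]
  have hq2 : q.2 ^ (2 : ℤ) = s ^ (2 : ℤ) := by
    simpa [hq1] using h11
  -- the value on one more root pins down the square root
  obtain ⟨r6, hr6, h6⟩ := (show ∃ r < 12, wv [i1, i0] r = 6 ∧ -1 * cA r + 2 * cB r = 1 by decide +kernel)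
  have h6' := hr ⟨r6, half_eq.2.symm ▸ hr6⟩
  rw [act_eq hr6 h6.1, show cA 6 = 0 by decide +kernel, show cB 6 = 1 by decide +kernel] at h6'
  simp only [zpow_one, zpow_zero, one_mul] at h6'
  rw [show (s⁻¹ : Fˣ) = s ^ (-1 : ℤ) by simp, show (s ^ 2 : Fˣ) = s ^ (2 : ℤ) by norm_cast,
    ← zpow_mul, ← zpow_mul, ← zpow_add, h6.2, zpow_one] at h6'
  exact congrArg T (Prod.ext hq1 h6')

theorem tau_T (δ : Fˣ) (u v : Fˣ) : T (u, v) * tau δ = T (u * δ, v * δ⁻¹) := by
  rw [tau_apply, ← map_mul]; rfl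

/-- A diagonal invertible matrix. -/
def glD (a b : Fˣ) : GL2F where
  val := !![(a : F), 0; 0, (b : F)]
  inv := !![(a : F)⁻¹, 0; 0, (b : F)⁻¹]
  val_inv := by ext i j; fin_cases i <;> fin_cases j <;> simp [Matrix.mul_apply, Fin.sum_univ_two]
  inv_val := by ext i j; fin_cases i <;> fin_cases j <;> simp [Matrix.mul_apply, Fin.sum_univ_two]

theorem dl_glD (a b : Fˣ) : dl (glD a b) = a * b := by
  apply Units.ext; rw [dl_val]; simp [glD]

theorem sA_glD (a b : Fˣ) : sA (glD a b) = dM b⁻¹ := by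
  apply mat_inj
  rw [mat_sA, dl_glD, mat_dM]
  ext i j
  fin_cases i <;> fin_cases j <;> simp [glD] <;> field_simp

/-- The pair of diagonal matrices. -/
def dP (s t δ : Fˣ) : ↥(Pairs F) :=
  ⟨(glD (δ * s) s⁻¹, glD (δ * t) t⁻¹), mem_Pairs.2 (by
    show dl (glD (δ * s) s⁻¹) = dl (glD (δ * t) t⁻¹)
    rw [dl_glD, dl_glD, mul_inv_cancel_right, mul_inv_cancel_right])⟩

theorem Phi_dP (s t δ : Fˣ) : Phi (dP s t δ) = T (s ^ 2 * δ, (s ^ 3)⁻¹ * t * δ⁻¹) := by
  rw [Phi_apply]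
  simp only [dP, sA_glD, inv_inv, dl_glD, mul_inv_cancel_right, f1_dM, f2_dM, tau_apply, ← map_mul,
    Prod.mk_mul_mk, mul_one, one_mul]

theorem diag_mem_range {d : GL chevG2.Idx F} (hd : d ∈ chevG2.diagonalSubgroup F) :
    d ∈ (Phi (F := F)).range := by
  obtain ⟨p, rfl⟩ := exists_T hd
  refine ⟨dP 1 (p.1 * p.2) p.1, ?_⟩
  rw [Phi_dP]
  congr 1
  refine Prod.ext ?_ ?_
  · simp
  · show ((1 : Fˣ) ^ 3)⁻¹ * (p.1 * p.2) * p.1⁻¹ = p.2
    rw [one_pow, inv_one, one_mul, mul_comm p.1, mul_inv_cancel_right]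

/-- A matrix of determinant one as an invertible matrix. -/
def toG (X : SL2F) : GL2F := Matrix.SpecialLinearGroup.toGL X

theorem toG_val (X : SL2F) : (toG X : Matrix (Fin 2) (Fin 2) F) = mat X := rfl

theorem dl_toG (X : SL2F) : dl (toG X) = 1 := by
  apply Units.ext
  rw [dl_val, Units.val_one]
  exact mat_det X

theorem sA_toG (X : SL2F) : sA (toG X) = X := by
  apply mat_inj
  rw [mat_sA, dl_toG]
  ext i j
  fin_cases i <;> fin_cases j <;> simp [toG, mat]

theorem sA_one : sA (1 : GL2F) = 1 := by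
  apply mat_inj
  rw [mat_sA, map_one, mat_one]
  ext i j
  fin_cases i <;> fin_cases j <;> simp

/-- The first factor. -/
def j1 : SL2F →* ↥(Pairs F) :=
  MonoidHom.mk' (fun X => ⟨(toG X, 1), mem_Pairs.2 (show dl (toG X) = dl 1 by rw [dl_toG, map_one])⟩)
    fun X Y => Subtype.ext (Prod.ext (map_mul Matrix.SpecialLinearGroup.toGL X Y) (mul_one _).symm)

/-- The second factor. -/
def j2 : SL2F →* ↥(Pairs F) :=
  MonoidHom.mk' (fun X => ⟨(1, toG X), mem_Pairs.2 (show dl 1 = dl (toG X) by rw [dl_toG, map_one])⟩)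
    fun X Y => Subtype.ext (Prod.ext (mul_one _).symm (map_mul Matrix.SpecialLinearGroup.toGL X Y))

theorem Phi_j1 (X : SL2F) : Phi (j1 X) = f1 X := by
  rw [Phi_apply]
  show f1 (sA (toG X)) * f2 (sA 1) * tau (dl (toG X)) = _
  rw [sA_toG, sA_one, dl_toG, map_one, map_one, mul_one, mul_one]

theorem Phi_j2 (X : SL2F) : Phi (j2 X) = f2 X := by
  rw [Phi_apply]
  show f1 (sA 1) * f2 (sA (toG X)) * tau (dl (1 : GL2F)) = _
  rw [sA_toG, sA_one, map_one, map_one, map_one, mul_one, one_mul]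

theorem hh_eq_f1 : (hh : GL chevG2.Idx F) = f1 (dM (-1)) := by
  rw [f1_dM, hh]
  congr 1
  refine Prod.ext ?_ ?_ <;> apply Units.ext <;> simp [pow_succ]

theorem cB_vals : Even (cB 7) ∧ Even (cB 4) ∧ Even (cB 11) ∧ Even (cB 0) := by decide +kernel

theorem hh_f1 (X : SL2F) : hh * f1 X = f1 X * hh := by
  have h : (MulAut.conj (hh : GL chevG2.Idx F)).toMonoidHom.comp f1 = f1 := by
    refine hom_ext (fun u => ?_) (fun u => ?_)
    · show hh * f1 (uM u) * (hh)⁻¹ = _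
      rw [f1_uM, hh_conj (by norm_num), cB_vals.1.neg_one_zpow, one_mul]
    · show hh * f1 (lM u) * (hh)⁻¹ = _
      rw [f1_lM, hh_conj (by norm_num), cB_vals.2.1.neg_one_zpow, one_mul]
  exact mul_inv_eq_iff_eq_mul.1 (DFunLike.congr_fun h X)

theorem hh_f2 (X : SL2F) : hh * f2 X = f2 X * hh := by
  rw [hh_eq_f1, f1_f2]

theorem Phi_mem (p : ↥(Pairs F)) : Phi p ∈ chevG2.group F ⊓ Subgroup.centralizer {(hh : GL chevG2.Idx F)} := by
  have g1 : ∀ X : SL2F, f1 X ∈ chevG2.group F := fun X => by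
    have : f1.range ≤ chevG2.group F := by
      rw [f1, ((S2.sl2Rel_simple (F := F) i0).exists_hom).choose_spec.2.2, Subgroup.closure_le]
      rintro g (⟨t, rfl⟩ | ⟨t, rfl⟩) <;> exact S2.ok.xG_mem_group _ _
    exact this ⟨X, rfl⟩
  have gb : ∀ X : SL2F, fb X ∈ chevG2.group F := fun X => by
    have : fb.range ≤ chevG2.group F := by
      rw [fb, ((S2.sl2Rel_simple (F := F) i1).exists_hom).choose_spec.2.2, Subgroup.closure_le]
      rintro g (⟨t, rfl⟩ | ⟨t, rfl⟩) <;> exact S2.ok.xG_mem_group _ _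
    exact this ⟨X, rfl⟩
  have g2 : ∀ X : SL2F, f2 X ∈ chevG2.group F := fun X =>
    mul_mem (mul_mem (S2.mono_le_group (S2.nL_mem_mono _)) (gb X))
      (inv_mem (S2.mono_le_group (S2.nL_mem_mono _)))
  rw [Phi_apply]
  refine Subgroup.mem_inf.2 ⟨mul_mem (mul_mem (g1 _) (g2 _)) (T_mem_group _), ?_⟩
  rw [Subgroup.mem_centralizer_singleton_iff]
  have c3 : hh * tau (dl p.1.1) = tau (dl p.1.1) * (hh : GL chevG2.Idx F) := by
    rw [hh, tau_apply, ← map_mul, ← map_mul, mul_comm]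
  exact (((Commute.mul_right (hh_f1 _) (hh_f2 _)).mul_right c3).eq).symm

theorem f1_wM : f1 (wM : SL2F) = S2.nL F [i0] := by
  have h : S2.nL F [i0] = x 7 (1 : F) * x 4 (-(1 : F)⁻¹) * x 7 (1 : F) := by
    simp only [Struct.nL, List.map_cons, List.map_nil, List.prod_cons, List.prod_nil, mul_one]
    unfold Ok.nG; rw [simple0.1, simple0.2]; rfl
  rw [wM_eq, map_mul, map_mul, f1_uM, f1_lM, h]

theorem fb_wM : fb (wM : SL2F) = S2.nL F [i1] := by
  have h : S2.nL F [i1] = x 6 (1 : F) * x 5 (-(1 : F)⁻¹) * x 6 (1 : F) := by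
    simp only [Struct.nL, List.map_cons, List.map_nil, List.prod_cons, List.prod_nil, mul_one]
    unfold Ok.nG; rw [simple1.1, simple1.2]; rfl
  rw [wM_eq, map_mul, map_mul, fb_uM, fb_lM, h]

/-- A word of the reflection in the highest root. -/
def W2 : List (Fin chevG2.rank) := [i1, i0, i1, i0, i1]

theorem f2_wM_mono : f2 (wM : SL2F) ∈ chevG2.monomialSubgroup F := by
  rw [f2_apply, fb_wM]
  exact mul_mem (mul_mem (S2.nL_mem_mono _) (S2.nL_mem_mono _)) (inv_mem (S2.nL_mem_mono _))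

theorem f2_wM_act : Act S2.ok (f2 (wM : SL2F)) (S2.wpL W2) := by
  obtain ⟨L0, h0, -⟩ := S2.exists_act (F := F) f2_wM_mono
  have h1 := S2.act_mul h0 (S2.act_nL (F := F) [i1, i0])
  have h2 := S2.act_mul (S2.act_nL (F := F) [i1, i0]) (S2.act_nL (F := F) [i1])
  rw [f2_apply, fb_wM, nw, inv_mul_cancel_right] at h1
  have h3 := S2.act_unique h1 h2
  have h4 : S2.wpL L0 = S2.wpL W2 := by
    refine mul_right_cancel (h3.trans ?_)
    simp only [W2, Struct.wpL, List.map_cons, List.map_nil, List.prod_cons, List.prod_nil, mul_one, mul_assoc]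
    rw [← mul_assoc (S2.wp i1) (S2.wp i1), S2.wp_mul_self, one_mul, S2.wp_mul_self, mul_one]
  rwa [h4] at h0

theorem stab_words : ∀ L ∈ words, (∀ r < 12, cB (wv L r) % 2 = cB r % 2) →
    (List.range 12).map (wv L) ∈ [[], [i0], W2, i0 :: W2].map (fun M => (List.range 12).map (wv M)) := by
  decide +kernel

theorem wpL_ext {L M : List (Fin chevG2.rank)} (h : (List.range 12).map (wv L) = (List.range 12).map (wv M)) :
    S2.wpL L = S2.wpL M := by
  refine Equiv.ext fun r => Fin.ext ?_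
  rw [← S2.wWord_eq L r, ← S2.wWord_eq M r]
  exact List.map_inj_left.1 h r.val (List.mem_range.2 (half_eq.2 ▸ r.isLt))

theorem UPsi_conj {d : GL chevG2.Idx F} (hd : d ∈ chevG2.diagonalSubgroup F)
    {Ψ : Fin chevG2.nroots → Prop} {v : GL chevG2.Idx F} (hv : v ∈ S2.UPsi F Ψ) :
    d * v * d⁻¹ ∈ S2.UPsi F Ψ := by
  have h : (S2.UPsi F Ψ).map (MulAut.conj d).toMonoidHom ≤ S2.UPsi F Ψ := by
    rw [Struct.UPsi, MonoidHom.map_closure, Subgroup.closure_le]
    rintro g ⟨y, ⟨r, t, a, hr, rfl⟩, rfl⟩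
    obtain ⟨-, c, -, e⟩ := S2.act_diag hd r
    exact Subgroup.subset_closure ⟨r, c * t, a, hr, ((e t).1)⟩
  exact h (Subgroup.mem_map_of_mem _ hv)

theorem U_fixed [NeZero (2 : F)] {u : GL chevG2.Idx F} (hu : u ∈ chevG2.posUnipotent F)
    (hc : hh * u * (hh : GL chevG2.Idx F)⁻¹ = u) : u ∈ (Phi (F := F)).range := by
  rw [S2.posUnipotent_eq] at hu
  obtain ⟨t, rfl⟩ := S2.exists_pw (chevG2.nroots - chevG2.nroots / 2) (chevG2.nroots / 2) (by omega) le_rfl _ hu
  rw [half_eq.1, GTwoInv.pw_eq_mk] at hc ⊢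
  have e : hh * GTwoInv.mk (t 6) (t 7) (t 8) (t 9) (t 10) (t 11) * (hh : GL chevG2.Idx F)⁻¹ =
      GTwoInv.mk (-t 6) (t 7) (-t 8) (-t 9) (-t 10) (t 11) := by
    have k : ∀ r < 12, ∀ a : F, hh * x r a = x r ((-1 : F) ^ cB r * a) * (hh : GL chevG2.Idx F) := fun r hr a =>
      mul_inv_eq_iff_eq_mul.1 (hh_conj hr a)
    rw [mul_inv_eq_iff_eq_mul]
    simp only [GTwoInv.mk, ← mul_assoc]
    rw [k 6 (by norm_num), show cB 6 = 1 by decide +kernel]
    simp only [mul_assoc]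
    rw [← mul_assoc hh (x 7 _), k 7 (by norm_num), show cB 7 = 0 by decide +kernel]
    simp only [mul_assoc]
    rw [← mul_assoc hh (x 8 _), k 8 (by norm_num), show cB 8 = 1 by decide +kernel]
    simp only [mul_assoc]
    rw [← mul_assoc hh (x 9 _), k 9 (by norm_num), show cB 9 = 1 by decide +kernel]
    simp only [mul_assoc]
    rw [← mul_assoc hh (x 10 _), k 10 (by norm_num), show cB 10 = 1 by decide +kernel]
    simp only [mul_assoc]
    rw [k 11 (by norm_num), show cB 11 = 2 by decide +kernel]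
    simp
  rw [e] at hc
  let t' : ℕ → F := fun r => if r = 7 ∨ r = 11 then t r else -t r
  have hpw : S2.pw 6 t' = S2.pw 6 t := by
    rw [GTwoInv.pw_eq_mk, GTwoInv.pw_eq_mk]
    simpa [t'] using hc
  have key : ∀ r, 6 ≤ r → r < 12 → ¬ (r = 7 ∨ r = 11) → t r = 0 := fun r h1 h2 h3 => by
    have h4 := S2.pw_inj 6 6 (by rw [half_eq.2]) (by rw [half_eq.1]) t' t hpw r h1 (half_eq.2.symm ▸ h2)
    simp only [t', if_neg h3] at h4
    have h5 : (2 : F) * t r = 0 := by linear_combination -h4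
    exact (mul_eq_zero.1 h5).resolve_left two_ne_zero
  rw [key 6 le_rfl (by norm_num) (by norm_num), key 8 (by norm_num) (by norm_num) (by norm_num),
    key 9 (by norm_num) (by norm_num) (by norm_num), key 10 (by norm_num) (by norm_num) (by norm_num)]
  obtain ⟨c, hc0, ec⟩ := f2_uM (F := F)
  refine ⟨j1 (uM (t 7)) * j2 (uM (t 11 / c)), ?_⟩
  rw [map_mul, Phi_j1, Phi_j2, f1_uM, ec, mul_div_cancel₀ _ hc0]
  simp [GTwoInv.mk, GTwoInv.x_zero]

theorem mem_range_of_commute [NeZero (2 : F)] {g : GL chevG2.Idx F} (hg : g ∈ chevG2.group F)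
    (hc : hh * g = g * (hh : GL chevG2.Idx F)) : g ∈ (Phi (F := F)).range := by
  obtain ⟨b, hb, n, hn, L₀, hact, v, hv, rfl⟩ := S2.normal_form okNeg_G2 hg
  obtain ⟨L, hL, eL⟩ := exists_word_rep L₀
  rw [eL] at hact hv
  have hhd : (hh : GL chevG2.Idx F) ∈ chevG2.diagonalSubgroup F := T_mem_diag _
  obtain ⟨u, hu, d, hd, rfl⟩ := S2.borel_decomp hb
  set e : GL chevG2.Idx F := hh * n * (hh : GL chevG2.Idx F)⁻¹ * n⁻¹ with he
  have hed : e ∈ chevG2.diagonalSubgroup F := by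
    rw [he, show hh * n * hh⁻¹ * n⁻¹ = hh * (n * hh⁻¹ * n⁻¹) by group]
    exact mul_mem hhd (S2.norm_diag hn (inv_mem hhd))
  have hdc : hh * d * (hh : GL chevG2.Idx F)⁻¹ = d := by
    obtain ⟨p, rfl⟩ := exists_T hd
    rw [hh, ← map_mul, mul_comm, map_mul, mul_inv_cancel_right]
  have hu' : hh * u * (hh : GL chevG2.Idx F)⁻¹ ∈ chevG2.posUnipotent F :=
    (Subgroup.mem_normalizer_iff.1 (S2.diag_normalises_U hhd) u).1 hu
  have h1 : (hh * u * hh⁻¹) * (d * e) * n * (hh * v * hh⁻¹) = u * d * n * v := by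
    calc (hh * u * hh⁻¹) * (d * e) * n * (hh * v * hh⁻¹)
        = (hh * u * hh⁻¹) * ((hh * d * hh⁻¹) * e) * n * (hh * v * hh⁻¹) := by rw [hdc]
      _ = hh * (u * d * n * v) * hh⁻¹ := by rw [he]; group
      _ = _ := by rw [hc, mul_inv_cancel_right]
  obtain ⟨h2, h3⟩ := S2.normal_form_unique okNeg_G2
    (mul_mem (S2.B_le_of hu') (Subgroup.mem_sup_right (mul_mem hd hed))) hb hact (UPsi_conj hhd hv) hv h1
  have h4 : (u⁻¹ * (hh * u * hh⁻¹)) = d * e⁻¹ * d⁻¹ := by
    have h2' : hh * u * hh⁻¹ * (d * e) = u * d := h2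
    calc u⁻¹ * (hh * u * hh⁻¹) = u⁻¹ * (hh * u * hh⁻¹ * (d * e)) * (e⁻¹ * d⁻¹) := by group
      _ = _ := by rw [h2']; group
  have h5 : u⁻¹ * (hh * u * hh⁻¹) ∈ chevG2.posUnipotent F ⊓ chevG2.diagonalSubgroup F :=
    Subgroup.mem_inf.2 ⟨mul_mem (inv_mem hu) hu', h4 ▸ mul_mem (mul_mem hd (inv_mem hed)) (inv_mem hd)⟩
  rw [S2.U_inf_H, Subgroup.mem_bot] at h5
  have hufix : hh * u * (hh : GL chevG2.Idx F)⁻¹ = u := (inv_mul_eq_one.1 h5).symm
  have he1 : e = 1 := by
    rw [h5, eq_comm, mul_inv_eq_one] at h4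
    simpa using h4
  have hnc : hh * n = n * (hh : GL chevG2.Idx F) :=
    mul_inv_eq_iff_eq_mul.1 (mul_inv_eq_one.1 (he ▸ he1))
  have hpar : ∀ r < 12, cB (wv L r) % 2 = cB r % 2 := by
    intro r hr
    obtain ⟨-, c, hc0, ec⟩ := hact ⟨r, half_eq.2.symm ▸ hr⟩
    have hwr : wv L r < 12 := wv_lt L r hr
    have hval := act_eq (L := L) hr rfl
    have e1 : ∀ s : F, n * x r s * n⁻¹ = x (wv L r) (c * s) := fun s => by
      have := (ec s).1; rw [hval] at this; exact this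
    have e2 : x (wv L r) ((-1 : F) ^ cB (wv L r) * (c * 1)) = x (wv L r) (c * ((-1 : F) ^ cB r * 1)) := by
      rw [← hh_conj hwr, ← e1, ← e1, ← hh_conj hr,
        show hh * (n * x r (1 : F) * n⁻¹) * hh⁻¹ = (hh * n) * x r (1 : F) * (hh * n)⁻¹ by group, hnc]
      group
    have e3 : (-1 : F) ^ cB (wv L r) = (-1 : F) ^ cB r := by
      have := x_inj hwr e2
      field_simp at this
      simpa [mul_comm c] using this
    have h2ne : (1 : F) ≠ -1 := fun h => two_ne_zero (α := F) (by linear_combination h)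
    rcases Int.even_or_odd (cB (wv L r)) with ha | ha <;> rcases Int.even_or_odd (cB r) with hb' | hb'
    · rw [Int.even_iff.1 ha, Int.even_iff.1 hb']
    · rw [ha.neg_one_zpow, hb'.neg_one_zpow] at e3; exact absurd e3 h2ne
    · rw [ha.neg_one_zpow, hb'.neg_one_zpow] at e3; exact absurd e3.symm h2ne
    · rw [Int.odd_iff.1 ha, Int.odd_iff.1 hb']
  have key : ∀ M : GL chevG2.Idx F, M ∈ (Phi (F := F)).range → M ∈ chevG2.monomialSubgroup F →
      Act S2.ok M (S2.wpL L) → n ∈ (Phi (F := F)).range := by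
    intro M hM hMm hMa
    obtain ⟨L1, h6, hiff⟩ := S2.exists_act (mul_mem hn (inv_mem hMm))
    have h7 := S2.act_mul h6 hMa
    rw [inv_mul_cancel_right] at h7
    have h8 := hiff.1 (mul_eq_right.1 (S2.act_unique h7 hact))
    have := mul_mem (diag_mem_range h8) hM
    rwa [inv_mul_cancel_right] at this
  have m1 : f1 (wM : SL2F) ∈ (Phi (F := F)).range := ⟨j1 wM, Phi_j1 _⟩
  have m2 : f2 (wM : SL2F) ∈ (Phi (F := F)).range := ⟨j2 wM, Phi_j2 _⟩
  have a1 : Act S2.ok (f1 (wM : SL2F)) (S2.wpL [i0]) := f1_wM (F := F) ▸ S2.act_nL [i0]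
  have n1 : f1 (wM : SL2F) ∈ chevG2.monomialSubgroup F := f1_wM (F := F) ▸ S2.nL_mem_mono [i0]
  have hnr : n ∈ (Phi (F := F)).range := by
    have hs := stab_words L hL hpar
    simp only [List.map_cons, List.map_nil, List.mem_cons, List.not_mem_nil, or_false] at hs
    rcases hs with h | h | h | h <;> have h' := wpL_ext h
    · exact key 1 (one_mem _) (one_mem _) (by rw [h']; simpa [Struct.wpL] using S2.act_one (F := F))
    · exact key _ m1 n1 (h' ▸ a1)
    · exact key _ m2 f2_wM_mono (h' ▸ f2_wM_act)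
    · refine key _ (mul_mem m1 m2) (mul_mem n1 f2_wM_mono) ?_
      rw [h']
      simpa [Struct.wpL] using S2.act_mul a1 (f2_wM_act (F := F))
  exact mul_mem (mul_mem (mul_mem (U_fixed hu hufix) (diag_mem_range hd)) hnr)
    (U_fixed (S2.UPsi_le _ hv) h3)

theorem range_eq [NeZero (2 : F)] :
    (Phi (F := F)).range = chevG2.group F ⊓ Subgroup.centralizer {(hh : GL chevG2.Idx F)} := by
  refine le_antisymm ?_ fun g hg => ?_
  · rintro g ⟨p, rfl⟩; exact Phi_mem p
  · obtain ⟨h1, h2⟩ := Subgroup.mem_inf.1 hg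
    exact mem_range_of_commute h1 (Subgroup.mem_centralizer_singleton_iff.1 h2).symm

theorem inj_of_simple {f : SL2F →* GL chevG2.Idx F} {i : Fin chevG2.rank} {r : ℕ} (hr : r < 12) (hr6 : 6 ≤ r)
    (hu : ∀ t, f (uM t) = x r t) (hw : f wM = S2.nL F [i])
    (hd : ∀ s, f (dM s) ∈ chevG2.diagonalSubgroup F) (hd1 : ∀ s, f (dM s) = 1 → s = 1) :
    Function.Injective f := by
  rw [injective_iff_map_eq_one]
  intro X hX
  have hdet := mat_det X
  have hU : ∀ t, f (uM t) ∈ chevG2.posUnipotent F := fun t => by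
    rw [hu]; exact S2.xG_mem_U (half_eq.1 ▸ hr6) (half_eq.2.symm ▸ hr) t
  by_cases hc : mat X 1 0 = 0
  · have ha : mat X 0 0 ≠ 0 := fun e => by simp [hc, e] at hdet
    have hX' : X = uM (mat X 0 0 * mat X 0 1) * dM (Units.mk0 _ ha) := by
      apply mat_inj
      rw [mat_mul, mat_uM, mat_dM]
      ext a b
      fin_cases a <;> fin_cases b <;> simp [Matrix.mul_apply, Fin.sum_univ_two, hc] <;> field_simp
      rw [hc, mul_zero, sub_zero] at hdet
      linear_combination hdet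
    rw [hX', map_mul] at hX
    have h1 : f (uM (mat X 0 0 * mat X 0 1)) ∈ chevG2.posUnipotent F ⊓ chevG2.diagonalSubgroup F :=
      Subgroup.mem_inf.2 ⟨hU _, by rw [eq_inv_of_mul_eq_one_left hX]; exact inv_mem (hd _)⟩
    rw [S2.U_inf_H, Subgroup.mem_bot] at h1
    rw [h1, one_mul] at hX
    rw [hu] at h1
    have h2 : mat X 0 0 * mat X 0 1 = 0 := S2.xG_eq_one (half_eq.2.symm ▸ hr) h1
    rw [hX', h2, hd1 _ hX]
    apply mat_inj
    rw [mat_mul, mat_uM, mat_dM, mat_one]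
    ext a b
    fin_cases a <;> fin_cases b <;> simp
  · exfalso
    have hX' : X = uM (mat X 0 0 / mat X 1 0) * (wM * dM (Units.mk0 (-mat X 1 0) (neg_ne_zero.2 hc))) *
        uM (mat X 1 1 / mat X 1 0) := by
      apply mat_inj
      simp only [mat_mul, mat_uM, mat_wM, mat_dM, Units.val_mk0]
      ext a b
      fin_cases a <;> fin_cases b <;> simp [Matrix.mul_apply, Fin.sum_univ_two] <;> field_simp
      all_goals first | ring1 | linear_combination hdet | linear_combination -hdet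
    rw [hX'] at hX
    simp only [map_mul] at hX
    have hB : f wM ∈ chevG2.borelSubgroup F := by
      have hfw : f wM = (f (uM (mat X 0 0 / mat X 1 0)))⁻¹ * (f (uM (mat X 1 1 / mat X 1 0)))⁻¹ *
          (f (dM (Units.mk0 (-mat X 1 0) (neg_ne_zero.2 hc))))⁻¹ := by
        apply eq_mul_inv_of_mul_eq
        apply eq_mul_inv_of_mul_eq
        apply eq_inv_of_mul_eq_one_right
        simpa [mul_assoc] using hX
      rw [hfw]
      exact mul_mem (mul_mem (inv_mem (S2.B_le_of (hU _))) (inv_mem (S2.B_le_of (hU _))))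
        (inv_mem (Subgroup.mem_sup_right (hd _)))
    have hD : f wM ∈ chevG2.diagonalSubgroup F := by
      rw [← S2.B_inf_N]; exact Subgroup.mem_inf.2 ⟨hB, hw ▸ S2.nL_mem_mono _⟩
    have h3 := S2.act_unique (hw ▸ S2.act_nL (F := F) [i]) (S2.act_diag hD)
    have h4 : ∀ j : Fin chevG2.rank, (List.range 12).map (wv [j]) ≠ (List.range 12).map (wv []) := by
      decide +kernel
    refine h4 i (List.map_congr_left fun k hk => ?_)
    have hk' : k < 12 := List.mem_range.1 hk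
    rw [← act_eq (L := [i]) hk' rfl, h3]
    rfl

theorem f1_inj : Function.Injective (f1 : SL2F →* GL chevG2.Idx F) :=
  inj_of_simple (r := 7) (by norm_num) (by norm_num) f1_uM f1_wM (fun s => f1_dM s ▸ T_mem_diag _)
    fun s h => by
      rw [f1_dM, ← map_one T] at h
      have h2 := Prod.ext_iff.1 (T_inj h)
      have hs2 : s ^ 2 = 1 := h2.1
      have hs3 : s ^ 3 = 1 := inv_eq_one.1 h2.2
      calc s = s ^ 3 * (s ^ 2)⁻¹ := by rw [pow_succ' s 2, mul_inv_cancel_right]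
        _ = 1 := by rw [hs2, hs3, inv_one, mul_one]

theorem f2_inj : Function.Injective (f2 : SL2F →* GL chevG2.Idx F) :=
  (MulAut.conj (nw : GL chevG2.Idx F)).injective.comp
    (inj_of_simple (f := fb) (r := 6) (by norm_num) le_rfl fb_uM fb_wM (fun s => fb_dM s ▸ T_mem_diag _)
      fun s h => by
        rw [fb_dM, ← map_one T] at h
        exact inv_eq_one.1 (Prod.ext_iff.1 (T_inj h)).1)

theorem scalar_of_commute {A : GL2F} (h : ∀ X : SL2F, toG X * A = A * toG X) :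
    ∃ a : Fˣ, A = glD a a := by
  have hu := congrArg (fun g : GL2F => (g : Matrix (Fin 2) (Fin 2) F)) (h (uM 1))
  have hl := congrArg (fun g : GL2F => (g : Matrix (Fin 2) (Fin 2) F)) (h (lM 1))
  have e1 := congrFun (congrFun hu 0) 0
  have e2 := congrFun (congrFun hu 0) 1
  have e3 := congrFun (congrFun hl 0) 0
  simp [toG_val, mat_uM, mat_lM, Matrix.mul_apply, Fin.sum_univ_two] at e1 e2 e3
  have ha : (A : Matrix (Fin 2) (Fin 2) F) 0 0 ≠ 0 := fun e0 => by
    have := (dl A).ne_zero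
    rw [dl_val, e0, e1] at this
    simp at this
  refine ⟨Units.mk0 _ ha, ?_⟩
  apply Units.ext
  ext a b
  fin_cases a <;> fin_cases b <;> simp [glD] <;> first | assumption | linear_combination e2

theorem Phi_eq_one_iff (p : ↥(Pairs F)) : Phi p = 1 ↔ ∃ a : Fˣ, p.1 = (glD a a, glD a a) := by
  constructor
  · intro hp
    have k1 : ∀ (X : SL2F), (p * j1 X * p⁻¹ = j1 X) := fun X => by
      have hn : (p * j1 X * p⁻¹).1.2 = 1 := by
        show p.1.2 * 1 * p.1.2⁻¹ = 1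
        rw [mul_one, mul_inv_cancel]
      have hd1 : dl (p * j1 X * p⁻¹).1.1 = 1 := by
        show dl (p.1.1 * toG X * p.1.1⁻¹) = 1
        rw [map_mul, map_mul, dl_toG, mul_one, map_inv, mul_inv_cancel]
      have h1 : Phi (p * j1 X * p⁻¹) = f1 (sA (p * j1 X * p⁻¹).1.1) := by
        rw [Phi_apply, hn, hd1, sA_one, map_one, map_one, mul_one, mul_one]
      rw [map_mul, map_mul, hp, map_inv, hp, inv_one, one_mul, mul_one, Phi_j1] at h1
      have h2 := f1_inj h1
      refine Subtype.ext (Prod.ext ?_ hn)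
      show (p * j1 X * p⁻¹).1.1 = toG X
      refine Eq.trans ?_ (congrArg toG h2.symm)
      apply Units.ext
      ext a b
      have := congrFun (congrFun (mat_sA (p * j1 X * p⁻¹).1.1) a) b
      rw [hd1] at this
      fin_cases a <;> fin_cases b <;> simp at this ⊢ <;> exact this.symm
    have k2 : ∀ (X : SL2F), (p * j2 X * p⁻¹ = j2 X) := fun X => by
      have hn : (p * j2 X * p⁻¹).1.1 = 1 := by
        show p.1.1 * 1 * p.1.1⁻¹ = 1
        rw [mul_one, mul_inv_cancel]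
      have hd1 : dl (p * j2 X * p⁻¹).1.2 = 1 := by
        show dl (p.1.2 * toG X * p.1.2⁻¹) = 1
        rw [map_mul, map_mul, dl_toG, mul_one, map_inv, mul_inv_cancel]
      have h1 : Phi (p * j2 X * p⁻¹) = f2 (sA (p * j2 X * p⁻¹).1.2) := by
        rw [Phi_apply, hn, sA_one, map_one, map_one, map_one, mul_one, one_mul]
      rw [map_mul, map_mul, hp, map_inv, hp, inv_one, one_mul, mul_one, Phi_j2] at h1
      have h2 := f2_inj h1
      refine Subtype.ext (Prod.ext hn ?_)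
      show (p * j2 X * p⁻¹).1.2 = toG X
      refine Eq.trans ?_ (congrArg toG h2.symm)
      apply Units.ext
      ext a b
      have := congrFun (congrFun (mat_sA (p * j2 X * p⁻¹).1.2) a) b
      rw [hd1] at this
      fin_cases a <;> fin_cases b <;> simp at this ⊢ <;> exact this.symm
    obtain ⟨a, ha⟩ := scalar_of_commute (A := p.1.1) fun X => by
      have := congrArg (fun q : ↥(Pairs F) => q.1.1) (k1 X)
      exact (mul_inv_eq_iff_eq_mul.1 this).symm
    obtain ⟨b, hb⟩ := scalar_of_commute (A := p.1.2) fun X => by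
      have := congrArg (fun q : ↥(Pairs F) => q.1.2) (k2 X)
      exact (mul_inv_eq_iff_eq_mul.1 this).symm
    have hab : a * a = b * b := by
      have := mem_Pairs.1 p.2
      change dl p.1.1 = dl p.1.2 at this
      rwa [ha, hb, dl_glD, dl_glD] at this
    have hp' : p = dP a⁻¹ b⁻¹ (a * a) := by
      refine Subtype.ext (Prod.ext ?_ ?_)
      · show p.1.1 = glD (a * a * a⁻¹) a⁻¹⁻¹
        rw [ha, inv_inv, mul_inv_cancel_right]
      · show p.1.2 = glD (a * a * b⁻¹) b⁻¹⁻¹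
        rw [hb, inv_inv, hab, mul_inv_cancel_right]
    rw [hp', Phi_dP, ← map_one T] at hp
    have h2 := (Prod.ext_iff.1 (T_inj hp)).2
    have hba : b = a := by
      have h3 : (((a⁻¹ ^ 3)⁻¹ * b⁻¹ * (a * a)⁻¹ : Fˣ) : F) = ((1 : Fˣ) : F) := congrArg _ h2
      push_cast at h3
      apply Units.ext
      field_simp at h3
      exact h3.symm
    exact ⟨a, Prod.ext ha (hb.trans (by rw [hba]))⟩
  · rintro ⟨a, ha⟩
    have hp' : p = dP a⁻¹ a⁻¹ (a * a) := Subtype.ext (by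
      rw [ha]; simp [dP])
    rw [hp', Phi_dP, ← map_one T]
    congr 1
    refine Prod.ext ?_ ?_ <;> apply Units.ext <;> push_cast <;> field_simp <;> simp

theorem two_ne (hF : ringChar F ≠ 2) : NeZero (2 : F) := ⟨Ring.two_ne_zero hF⟩

theorem card_GL2 [Fintype F] :
    Nat.card GL2F = Fintype.card F * (Fintype.card F - 1) * (Fintype.card F ^ 2 - 1) := by
  classical
  rw [Matrix.card_GL_field, Fin.prod_univ_two]
  simp only [Fin.val_zero, Fin.val_one, pow_zero, pow_one]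
  have h1 : Fintype.card F ^ 2 - Fintype.card F = Fintype.card F * (Fintype.card F - 1) := by
    rw [Nat.mul_sub_one, sq]
  rw [h1]; ring

theorem card_range [Fintype F] :
    Nat.card ↥(Phi (F := F)).range = Fintype.card F ^ 2 * (Fintype.card F ^ 2 - 1) ^ 2 := by
  classical
  let χ : GL2F × GL2F →* Fˣ := (dl.comp (MonoidHom.fst _ _)) / (dl.comp (MonoidHom.snd _ _))
  have hker : χ.ker = Pairs F := by
    ext q; rw [MonoidHom.mem_ker, mem_Pairs]; exact div_eq_one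
  have hsurj : Function.Surjective χ := fun u => ⟨(glD u 1, 1), by
    show dl (glD u 1) / dl 1 = u
    rw [dl_glD, map_one, div_one, mul_one]⟩
  have h1 := Subgroup.card_eq_card_quotient_mul_card_subgroup χ.ker
  rw [Nat.card_congr (QuotientGroup.quotientKerEquivOfSurjective χ hsurj).toEquiv, hker, Nat.card_prod,
    card_GL2, Nat.card_units, Nat.card_eq_fintype_card (α := F)] at h1
  have h2 := Subgroup.card_eq_card_quotient_mul_card_subgroup (Phi (F := F)).ker
  rw [Nat.card_congr (QuotientGroup.quotientKerEquivRange (Phi (F := F))).toEquiv] at h2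
  have h3 : Nat.card ↥(Phi (F := F)).ker = Fintype.card F - 1 := by
    rw [← Nat.card_eq_fintype_card (α := F), ← Nat.card_units]
    refine (Nat.card_congr (Equiv.ofBijective (fun a : Fˣ => (⟨⟨(glD a a, glD a a), mem_Pairs.2 rfl⟩,
      (Phi_eq_one_iff _).2 ⟨a, rfl⟩⟩ : ↥(Phi (F := F)).ker)) ⟨fun a b h => ?_, fun p => ?_⟩)).symm
    · have h' := congrArg (fun p : ↥(Phi (F := F)).ker => ((p.1.1.1 : GL2F) : Matrix (Fin 2) (Fin 2) F) 0 0) h
      exact Units.ext (by simpa [glD] using h')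
    · obtain ⟨a, ha⟩ := (Phi_eq_one_iff p.1).1 p.2
      exact ⟨a, Subtype.ext (Subtype.ext ha.symm)⟩
  rw [h3] at h2
  rw [h2] at h1
  obtain ⟨k, hk⟩ : ∃ k, Fintype.card F = k + 2 :=
    Nat.exists_eq_add_of_le' (Fintype.one_lt_card (α := F))
  rw [hk, show k + 2 - 1 = k + 1 by omega] at h1
  rw [hk]
  refine mul_left_cancel₀ (show (k + 1) * (k + 1) ≠ 0 by positivity) ?_
  rw [show (k + 1) * (k + 1) * Nat.card ↥(Phi (F := F)).range =
    (k + 1) * (Nat.card ↥(Phi (F := F)).range * (k + 1)) by ring, ← h1]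
  ring

end Cfsg.Lib.GTwoOdd
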