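import Cfsg.Agent.Chev.GTwoOdd.Torus

/-! The two commuting copies of `SL₂` of orthogonal roots in `G₂` and the map from pairs of
`2 × 2` matrices of equal determinant. -/

set_option autoImplicit false

open Cfsg.Lie

namespace Cfsg.Lib.GTwoOdd

open Cfsg.Lib.Chev
open Cfsg.Lib.GTwoInv (S2 half_eq x i0 i1 words wv wv_lt exists_word_rep)

variable {F : Type*} [Field F]

local notation "SL2F" => Matrix.SpecialLinearGroup (Fin 2) F
local notation "GL2F" => GL (Fin 2) F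

/-- The diagonal matrix of determinant one. -/
def dM (s : Fˣ) : SL2F := ⟨!![(s : F), 0; 0, (s : F)⁻¹], by simp [Matrix.det_fin_two]⟩

theorem mat_dM (s : Fˣ) : mat (dM s) = !![(s : F), 0; 0, (s : F)⁻¹] := rfl

theorem dM_eq (s : Fˣ) :
    (dM s : SL2F) = uM (s : F) * lM (-(s : F)⁻¹) * uM (s : F) *
      (uM (-1) * lM (-(-1 : F)⁻¹) * uM (-1)) := by
  apply mat_inj
  ext i j
  fin_cases i <;> fin_cases j <;>
    simp [mat_dM, mat_mul, mat_uM, mat_lM, Matrix.mul_apply, Fin.sum_univ_two]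

theorem wM_eq : (wM : SL2F) = uM 1 * lM (-(1 : F)⁻¹) * uM 1 := by
  apply mat_inj
  ext i j
  fin_cases i <;> fin_cases j <;> simp [mat_wM, mat_mul, mat_uM, mat_lM, Matrix.mul_apply, Fin.sum_univ_two]

theorem hom_ext {G : Type*} [Group G] {f g : SL2F →* G} (hu : ∀ t, f (uM t) = g (uM t))
    (hl : ∀ t, f (lM t) = g (lM t)) : f = g := by
  have gen : ∀ X : SL2F, mat X 1 0 ≠ 0 → f X = g X := fun X hc => by
    have hd := mat_det X
    have : X = uM ((mat X 0 0 - 1) / mat X 1 0) * lM (mat X 1 0) * uM ((mat X 1 1 - 1) / mat X 1 0) := by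
      apply mat_inj
      rw [Matrix.eta_fin_two (mat X)]
      ext i j
      fin_cases i <;> fin_cases j <;>
        simp [mat_mul, mat_uM, mat_lM, Matrix.mul_apply, Fin.sum_univ_two] <;> field_simp
      all_goals first | ring1 | linear_combination hd | linear_combination -hd
    rw [this]; simp only [map_mul, hu, hl]
  refine MonoidHom.ext fun X => ?_
  by_cases hc : mat X 1 0 = 0
  · have hd := mat_det X
    have h1 : mat (X * lM 1) 1 0 ≠ 0 := by
      intro e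
      simp [mat_mul, mat_lM, Matrix.mul_apply, Fin.sum_univ_two, hc] at e
      simp [hc, e] at hd
    have := gen _ h1
    rw [map_mul, map_mul, hl] at this
    exact mul_right_cancel this
  · exact gen X hc

theorem simple0 : chevG2.simple (i0 : Fin chevG2.rank) = 7 ∧ chevG2.neg 7 = 4 := by decide +kernel
theorem simple1 : chevG2.simple (i1 : Fin chevG2.rank) = 6 ∧ chevG2.neg 6 = 5 := by decide +kernel

/-- The `SL₂` of the short fundamental root. -/
noncomputable def f1 : SL2F →* GL chevG2.Idx F := ((S2.sl2Rel_simple (F := F) i0).exists_hom).choose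

theorem f1_uM (t : F) : f1 (uM t) = x 7 t := by
  rw [f1, ((S2.sl2Rel_simple (F := F) i0).exists_hom).choose_spec.1 t, simple0.1]; rfl

theorem f1_lM (t : F) : f1 (lM t) = x 4 t := by
  rw [f1, ((S2.sl2Rel_simple (F := F) i0).exists_hom).choose_spec.2.1 t, simple0.1, simple0.2]; rfl

/-- The `SL₂` of the long fundamental root. -/
noncomputable def fb : SL2F →* GL chevG2.Idx F := ((S2.sl2Rel_simple (F := F) i1).exists_hom).choose

theorem fb_uM (t : F) : fb (uM t) = x 6 t := by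
  rw [fb, ((S2.sl2Rel_simple (F := F) i1).exists_hom).choose_spec.1 t, simple1.1]; rfl

theorem fb_lM (t : F) : fb (lM t) = x 5 t := by
  rw [fb, ((S2.sl2Rel_simple (F := F) i1).exists_hom).choose_spec.2.1 t, simple1.1, simple1.2]; rfl

/-- A monomial element carrying the long fundamental root to the highest root. -/
noncomputable def nw : GL chevG2.Idx F := S2.nL F [i1, i0]

theorem wv_nw : wv [i1, i0] 6 = 11 ∧ wv [i1, i0] 5 = 0 := by decide +kernel

theorem nw_conj {r r' : ℕ} (hr : r < 12) (h : wv [i1, i0] r = r') :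
    ∃ c : F, c ≠ 0 ∧ ∀ t : F, nw * x r t * (nw : GL chevG2.Idx F)⁻¹ = x r' (c * t) := by
  obtain ⟨-, c, hc, e⟩ := S2.act_nL (F := F) [i1, i0] ⟨r, half_eq.2.symm ▸ hr⟩
  refine ⟨c, hc, fun t => ?_⟩
  have h2 := (e t).1
  rw [← S2.wWord_eq] at h2
  subst h
  exact h2

/-- The `SL₂` of the highest root. -/
noncomputable def f2 : SL2F →* GL chevG2.Idx F := (MulAut.conj (nw : GL chevG2.Idx F)).toMonoidHom.comp fb

theorem f2_apply (X : SL2F) : f2 X = nw * fb X * (nw : GL chevG2.Idx F)⁻¹ := rfl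

theorem f2_uM : ∃ c : F, c ≠ 0 ∧ ∀ t : F, f2 (uM t) = x 11 (c * t) := by
  obtain ⟨c, hc, e⟩ := nw_conj (F := F) (show 6 < 12 by norm_num) wv_nw.1
  exact ⟨c, hc, fun t => by rw [f2_apply, fb_uM, e]⟩

theorem f2_lM : ∃ c : F, c ≠ 0 ∧ ∀ t : F, f2 (lM t) = x 0 (c * t) := by
  obtain ⟨c, hc, e⟩ := nw_conj (F := F) (show 5 < 12 by norm_num) wv_nw.2
  exact ⟨c, hc, fun t => by rw [f2_apply, fb_lM, e]⟩

theorem roots_commute : ∀ r ∈ [7, 4], ∀ s ∈ [11, 0], r < 12 ∧ s < 12 ∧ s ≠ r ∧ s ≠ chevG2.neg r ∧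
    chevG2.commTerms r s = [] := by decide +kernel

theorem f1_commute_x {s : ℕ} (hs : s ∈ [11, 0]) (t : F) (X : SL2F) : Commute (f1 X) (x s t) := by
  have h : (MulAut.conj (x s t : GL chevG2.Idx F)).toMonoidHom.comp f1 = f1 := by
    refine hom_ext (fun u => ?_) (fun u => ?_)
    · obtain ⟨a, b, c, d, e⟩ := roots_commute 7 (by simp) s hs
      show x s t * f1 (uM u) * (x s t)⁻¹ = _
      rw [f1_uM, GTwoInv.commutes a b c d e, mul_inv_cancel_right]
    · obtain ⟨a, b, c, d, e⟩ := roots_commute 4 (by simp) s hs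
      show x s t * f1 (lM u) * (x s t)⁻¹ = _
      rw [f1_lM, GTwoInv.commutes a b c d e, mul_inv_cancel_right]
  have h1 : x s t * f1 X * (x s t)⁻¹ = f1 X := DFunLike.congr_fun h X
  exact (mul_inv_eq_iff_eq_mul.1 h1).symm

theorem f1_f2 (X Y : SL2F) : f1 X * f2 Y = f2 Y * f1 X := by
  have h : (MulAut.conj (f1 X : GL chevG2.Idx F)).toMonoidHom.comp f2 = f2 := by
    obtain ⟨c, -, ec⟩ := f2_uM (F := F)
    obtain ⟨c', -, ec'⟩ := f2_lM (F := F)
    refine hom_ext (fun u => ?_) (fun u => ?_)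
    · show f1 X * f2 (uM u) * (f1 X)⁻¹ = _
      rw [ec, (f1_commute_x (by simp) _ X).eq, mul_inv_cancel_right]
    · show f1 X * f2 (lM u) * (f1 X)⁻¹ = _
      rw [ec', (f1_commute_x (by simp) _ X).eq, mul_inv_cancel_right]
  exact mul_inv_eq_iff_eq_mul.1 (DFunLike.congr_fun h Y)

/-- Conjugation by `diag(δ, 1)`. -/
def dconj (δ : Fˣ) : SL2F →* SL2F :=
  MonoidHom.mk' (fun X => ⟨!![mat X 0 0, (δ : F) * mat X 0 1; (δ : F)⁻¹ * mat X 1 0, mat X 1 1], by
    have hd := mat_det X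
    simp [Matrix.det_fin_two]
    field_simp
    linear_combination hd⟩) fun X Y => by
    apply mat_inj
    show !![mat (X * Y) 0 0, (δ : F) * mat (X * Y) 0 1; (δ : F)⁻¹ * mat (X * Y) 1 0, mat (X * Y) 1 1] = !![mat X 0 0, (δ : F) * mat X 0 1; (δ : F)⁻¹ * mat X 1 0, mat X 1 1] *
      !![mat Y 0 0, (δ : F) * mat Y 0 1; (δ : F)⁻¹ * mat Y 1 0, mat Y 1 1]
    ext i j
    fin_cases i <;> fin_cases j <;>
      simp [mat_mul, Matrix.mul_apply, Fin.sum_univ_two] <;> field_simp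

theorem dconj_uM (δ : Fˣ) (t : F) : dconj δ (uM t) = uM ((δ : F) * t) := by
  apply mat_inj
  show !![_, _; _, _] = _
  ext i j
  fin_cases i <;> fin_cases j <;> simp [mat_uM]

theorem dconj_lM (δ : Fˣ) (t : F) : dconj δ (lM t) = lM ((δ : F)⁻¹ * t) := by
  apply mat_inj
  show !![_, _; _, _] = _
  ext i j
  fin_cases i <;> fin_cases j <;> simp [mat_lM]

/-- The torus element acting as `diag(δ, 1)` on both copies. -/
noncomputable def tau : Fˣ →* GL chevG2.Idx F := T.comp ((MonoidHom.id Fˣ).prod (invMonoidHom))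

theorem tau_apply (δ : Fˣ) : tau δ = T (δ, δ⁻¹) := rfl

theorem tau_conj {r : ℕ} (hr : r < 12) (δ : Fˣ) (t : F) :
    tau δ * x r t * (tau δ)⁻¹ = x r (((δ ^ (cA r - cB r) : Fˣ) : F) * t) := by
  rw [tau_apply, T_conj hr]
  congr 2
  rw [inv_zpow', ← zpow_add, ← sub_eq_add_neg]

theorem diff_vals : cA 7 - cB 7 = 1 ∧ cA 4 - cB 4 = -1 ∧ cA 11 - cB 11 = 1 ∧ cA 0 - cB 0 = -1 := by
  decide +kernel

theorem tau_f1 (δ : Fˣ) (X : SL2F) : tau δ * f1 X = f1 (dconj δ X) * tau δ := by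
  have h : (MulAut.conj (tau δ : GL chevG2.Idx F)).toMonoidHom.comp f1 = f1.comp (dconj δ) := by
    refine hom_ext (fun u => ?_) (fun u => ?_)
    · show tau δ * f1 (uM u) * (tau δ)⁻¹ = f1 (dconj δ (uM u))
      rw [f1_uM, tau_conj (by norm_num), dconj_uM, f1_uM, diff_vals.1]
      simp
    · show tau δ * f1 (lM u) * (tau δ)⁻¹ = f1 (dconj δ (lM u))
      rw [f1_lM, tau_conj (by norm_num), dconj_lM, f1_lM, diff_vals.2.1]
      simp
  exact mul_inv_eq_iff_eq_mul.1 (DFunLike.congr_fun h X)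

theorem tau_f2 (δ : Fˣ) (X : SL2F) : tau δ * f2 X = f2 (dconj δ X) * tau δ := by
  have h : (MulAut.conj (tau δ : GL chevG2.Idx F)).toMonoidHom.comp f2 = f2.comp (dconj δ) := by
    obtain ⟨c, -, ec⟩ := f2_uM (F := F)
    obtain ⟨c', -, ec'⟩ := f2_lM (F := F)
    refine hom_ext (fun u => ?_) (fun u => ?_)
    · show tau δ * f2 (uM u) * (tau δ)⁻¹ = f2 (dconj δ (uM u))
      rw [ec, tau_conj (by norm_num), dconj_uM, ec, diff_vals.2.2.1]
      simp [mul_left_comm]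
    · show tau δ * f2 (lM u) * (tau δ)⁻¹ = f2 (dconj δ (lM u))
      rw [ec', tau_conj (by norm_num), dconj_lM, ec', diff_vals.2.2.2]
      simp [mul_left_comm]
  exact mul_inv_eq_iff_eq_mul.1 (DFunLike.congr_fun h X)

/-- Pairs of invertible matrices of equal determinant. -/
def Pairs (F : Type*) [Field F] : Subgroup (GL (Fin 2) F × GL (Fin 2) F) :=
  (Matrix.GeneralLinearGroup.det.comp (MonoidHom.fst (GL (Fin 2) F) (GL (Fin 2) F))).eqLocus
    (Matrix.GeneralLinearGroup.det.comp (MonoidHom.snd (GL (Fin 2) F) (GL (Fin 2) F)))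

theorem mem_Pairs {p : GL2F × GL2F} :
    p ∈ Pairs F ↔ Matrix.GeneralLinearGroup.det p.1 = Matrix.GeneralLinearGroup.det p.2 := Iff.rfl

/-- The determinant as a unit. -/
def dl : GL2F →* Fˣ := Matrix.GeneralLinearGroup.det

theorem dl_val (A : GL2F) : (dl A : F) = (A : Matrix (Fin 2) (Fin 2) F) 0 0 * (A : Matrix (Fin 2) (Fin 2) F) 1 1 -
    (A : Matrix (Fin 2) (Fin 2) F) 0 1 * (A : Matrix (Fin 2) (Fin 2) F) 1 0 :=
  (Matrix.GeneralLinearGroup.val_det_apply A).trans (Matrix.det_fin_two _)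

/-- `A · diag(det A, 1)⁻¹`. -/
def sA (A : GL2F) : SL2F :=
  ⟨!![(dl A : F)⁻¹ * (A : Matrix (Fin 2) (Fin 2) F) 0 0, (A : Matrix (Fin 2) (Fin 2) F) 0 1;
      (dl A : F)⁻¹ * (A : Matrix (Fin 2) (Fin 2) F) 1 0, (A : Matrix (Fin 2) (Fin 2) F) 1 1], by
    have h := (dl A).ne_zero
    have e := dl_val A
    simp [Matrix.det_fin_two]
    field_simp
    linear_combination -e⟩

theorem mat_sA (A : GL2F) : mat (sA A) = !![(dl A : F)⁻¹ * (A : Matrix (Fin 2) (Fin 2) F) 0 0,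
    (A : Matrix (Fin 2) (Fin 2) F) 0 1;
    (dl A : F)⁻¹ * (A : Matrix (Fin 2) (Fin 2) F) 1 0, (A : Matrix (Fin 2) (Fin 2) F) 1 1] := rfl

theorem mat_dconj (δ : Fˣ) (X : SL2F) :
    mat (dconj δ X) = !![mat X 0 0, (δ : F) * mat X 0 1; (δ : F)⁻¹ * mat X 1 0, mat X 1 1] := rfl

theorem sA_mul (A C : GL2F) : sA (A * C) = sA A * dconj (dl A) (sA C) := by
  apply mat_inj
  rw [mat_mul, mat_dconj, mat_sA, mat_sA, mat_sA, map_mul]
  ext i j
  fin_cases i <;> fin_cases j <;>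
    simp [Matrix.mul_apply, Fin.sum_univ_two, Units.val_mul] <;> field_simp

/-- The map onto the centralizer of an involution. -/
noncomputable def PhiFun (p : GL2F × GL2F) : GL chevG2.Idx F := f1 (sA p.1) * f2 (sA p.2) * tau (dl p.1)

/-- The map onto the centralizer of an involution, as a homomorphism. -/
noncomputable def Phi : ↥(Pairs F) →* GL chevG2.Idx F :=
  MonoidHom.mk' (fun p => PhiFun p.1) fun p q => by
    have hp : dl p.1.1 = dl p.1.2 := mem_Pairs.1 p.2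
    simp only [PhiFun, Subgroup.coe_mul, Prod.fst_mul, Prod.snd_mul, sA_mul, map_mul, ← hp]
    calc f1 (sA p.1.1) * f1 (dconj (dl p.1.1) (sA q.1.1)) *
          (f2 (sA p.1.2) * f2 (dconj (dl p.1.1) (sA q.1.2))) * (tau (dl p.1.1) * tau (dl q.1.1))
        = f1 (sA p.1.1) * (f1 (dconj (dl p.1.1) (sA q.1.1)) * f2 (sA p.1.2)) *
          (f2 (dconj (dl p.1.1) (sA q.1.2)) * tau (dl p.1.1)) * tau (dl q.1.1) := by simp only [mul_assoc]
      _ = f1 (sA p.1.1) * f2 (sA p.1.2) * ((f1 (dconj (dl p.1.1) (sA q.1.1)) * tau (dl p.1.1)) *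
          f2 (sA q.1.2)) * tau (dl q.1.1) := by rw [f1_f2, ← tau_f2]; simp only [mul_assoc]
      _ = _ := by rw [← tau_f1]; simp only [mul_assoc]

theorem Phi_apply (p : ↥(Pairs F)) :
    Phi p = f1 (sA p.1.1) * f2 (sA p.1.2) * tau (dl p.1.1) := rfl

end Cfsg.Lib.GTwoOdd
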