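import Cfsg.Agent.Chev.GTwoOdd.Invol
import Cfsg.Agent.Chev.Ree.Main
import Cfsg.Agent.Classical.Misc.SLTwoTori
import Cfsg.Agent.Chev.Springer.SylowData
import Cfsg.Agent.Chev.Springer.AllData

/-! Centralizers of involutions and cyclic Sylow subgroups in the small Ree groups. -/

set_option autoImplicit false
set_option linter.dupNamespace false

open Cfsg.Lie

namespace Cfsg.Lib.GTwoOdd.ReeInv

open Cfsg.Lib.Chev
open Cfsg.Lib.Chev.Ree (Ree SG ρ)
open Cfsg.Lib.GTwoInv (i0 i1 wv x)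

variable {K : Type*} [Field K] [Fintype K] (X : Ree K)

local notation "SL2K" => Matrix.SpecialLinearGroup (Fin 2) K
local notation "PSL2K" => Matrix.ProjectiveSpecialLinearGroup (Fin 2) K

/-- The monomial element carrying the short fundamental root to its neighbour. -/
noncomputable def mb : GL chevG2.Idx K := SG.nL K [i1]

omit [Fintype K] in
theorem mb_mem : (mb : GL chevG2.Idx K) ∈ chevG2.group K := SG.mono_le_group (SG.nL_mem_mono _)

/-- The short copy of `SL₂` centralised by the involution. -/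
noncomputable def g1 : SL2K →* GL chevG2.Idx K := (MulAut.conj (mb : GL chevG2.Idx K)).toMonoidHom.comp f1

omit [Fintype K] in
theorem g1_apply (A : SL2K) : g1 A = mb * f1 A * (mb : GL chevG2.Idx K)⁻¹ := rfl

omit [Fintype K] in
theorem g1_mem (A : SL2K) : g1 A ∈ chevG2.group K :=
  mul_mem (mul_mem mb_mem (Phi_j1 A ▸ (Subgroup.mem_inf.1 (Phi_mem (j1 A))).1)) (inv_mem mb_mem)

omit [Fintype K] in
theorem g1_gen : ∃ c c' : K, ∀ t : K, g1 (uM t) = SG.ok.xG 8 (c * t) ∧ g1 (lM t) = SG.ok.xG 3 (c' * t) := by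
  obtain ⟨k7, k4⟩ := (show wv [i1] 7 = 8 ∧ wv [i1] 4 = 3 by decide +kernel)
  have key : ∀ r r' : ℕ, ∀ hr : r < 12, wv [i1] r = r' →
      ∃ c : K, ∀ t : K, mb * SG.ok.xG r t * (mb : GL chevG2.Idx K)⁻¹ = SG.ok.xG r' (c * t) := by
    intro r r' hr h
    obtain ⟨-, c, -, e⟩ := SG.act_nL (F := K) [i1] ⟨r, hr⟩
    refine ⟨c, fun t => ?_⟩
    have h2 := (e t).1
    rw [← SG.wWord_eq] at h2
    subst h
    exact h2
  obtain ⟨c, hc⟩ := key 7 8 (by norm_num) k7
  obtain ⟨c', hc'⟩ := key 4 3 (by norm_num) k4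
  exact ⟨c, c', fun t => ⟨by rw [g1_apply, f1_uM]; exact hc t, by rw [g1_apply, f1_lM]; exact hc' t⟩⟩

omit [Fintype K] in
theorem g1_inj : Function.Injective (g1 : SL2K →* GL chevG2.Idx K) :=
  (MulAut.conj (mb : GL chevG2.Idx K)).injective.comp f1_inj

/-- The long copy. -/
noncomputable def g2 : SL2K →* GL chevG2.Idx K :=
  MonoidHom.mk' (fun A => X.sg (g1 A)) fun A B => by rw [map_mul, X.sg_mul (g1_mem A) (g1_mem B)]

theorem g2_apply (A : SL2K) : g2 X A = X.sg (g1 A) := rfl

theorem tab8 : ρ 8 = 10 ∧ ρ 3 = 1 ∧ ρ 10 = 8 ∧ ρ 1 = 3 ∧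
    Isog.isoG2.lm 8 * Isog.isoG2.lm 10 = 3 ∧ Isog.isoG2.lm 3 * Isog.isoG2.lm 1 = 3 ∧
    8 < chevG2.nroots ∧ 3 < chevG2.nroots ∧ 10 < chevG2.nroots ∧ 1 < chevG2.nroots := by decide +kernel

theorem g1_g2 (A B : SL2K) : g1 A * g2 X B = g2 X B * g1 A := by
  obtain ⟨c, c', hc⟩ := g1_gen (K := K)
  obtain ⟨r8, r3, -, -, -, -, h8, h3, -, -⟩ := tab8
  have step : ∀ s ∈ [10, 1], ∀ a : K, g1 A * SG.ok.xG s a = SG.ok.xG s a * g1 A := by
    intro s hs a
    have h : (MulAut.conj (SG.ok.xG s a : GL chevG2.Idx K)).toMonoidHom.comp g1 = g1 := by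
      refine hom_ext (fun u => ?_) (fun u => ?_)
      · show SG.ok.xG s a * g1 (uM u) * (SG.ok.xG s a)⁻¹ = _
        rw [(hc u).1, ← (Cfsg.Lib.Chev.Ree.Ree.comm_pair (r := 8) (by simp) hs _ a).eq, mul_inv_cancel_right]
      · show SG.ok.xG s a * g1 (lM u) * (SG.ok.xG s a)⁻¹ = _
        rw [(hc u).2, ← (Cfsg.Lib.Chev.Ree.Ree.comm_pair (r := 3) (by simp) hs _ a).eq, mul_inv_cancel_right]
    exact (mul_inv_eq_iff_eq_mul.1 (DFunLike.congr_fun h A)).symm
  have h : (MulAut.conj (g1 A : GL chevG2.Idx K)).toMonoidHom.comp (g2 X) = g2 X := by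
    refine hom_ext (fun u => ?_) (fun u => ?_)
    · show g1 A * g2 X (uM u) * (g1 A)⁻¹ = _
      rw [g2_apply, (hc u).1, X.sg_xG h8, r8, step 10 (by simp), mul_inv_cancel_right]
    · show g1 A * g2 X (lM u) * (g1 A)⁻¹ = _
      rw [g2_apply, (hc u).2, X.sg_xG h3, r3, step 1 (by simp), mul_inv_cancel_right]
  exact mul_inv_eq_iff_eq_mul.1 (DFunLike.congr_fun h B)

theorem sg_g2 (A : SL2K) : X.sg (g2 X A) = g1 A := by
  obtain ⟨c, c', hc⟩ := g1_gen (K := K)
  obtain ⟨r8, r3, r10, r1, l8, l3, h8, h3, h10, h1⟩ := tab8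
  let f : SL2K →* GL chevG2.Idx K := MonoidHom.mk' (fun A => X.sg (g2 X A)) fun A B => by
    rw [map_mul]
    exact X.sg_mul (X.sg_mem (g1_mem A)) (X.sg_mem (g1_mem B))
  have hp : ∀ (a b : ℕ) (y : K), a * b = 3 → (y ^ (a * X.e)) ^ (b * X.e) = y := fun a b y hab => by
    rw [← pow_mul, show a * X.e * (b * X.e) = a * b * X.e * X.e by ring, hab, X.pow_q]
  have : f = g1 := by
    refine hom_ext (fun u => ?_) (fun u => ?_)
    · show X.sg (X.sg (g1 (uM u))) = _
      rw [(hc u).1, X.sg_xG h8, r8, X.sg_xG h10, r10, hp _ _ _ l8]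
    · show X.sg (X.sg (g1 (lM u))) = _
      rw [(hc u).2, X.sg_xG h3, r3, X.sg_xG h1, r1, hp _ _ _ l3]
  exact DFunLike.congr_fun this A

theorem g1_dM_neg : g1 (dM (-1) : SL2K) = X.hh (-1) := by
  obtain ⟨q, hq, hr⟩ := conj_T (SG.nL_mem_mono [i1]) (SG.act_nL (F := K) [i1]) ((1 : Kˣ), (-1 : Kˣ))
  obtain ⟨k6, k8⟩ := (show wv [i1] 6 = 5 ∧ wv [i1] 8 = 7 by decide +kernel)
  have h6 := hr ⟨6, by decide +kernel⟩
  have h8 := hr ⟨8, by decide +kernel⟩
  rw [act_eq (by norm_num) k6] at h6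
  rw [act_eq (by norm_num) k8] at h8
  simp only [show cA 5 = 0 by decide +kernel, show cB 5 = -1 by decide +kernel, show cA 7 = 1 by decide +kernel,
    show cB 7 = 0 by decide +kernel, show cA 6 = 0 by decide +kernel, show cB 6 = 1 by decide +kernel,
    show cA 8 = 1 by decide +kernel, show cB 8 = 1 by decide +kernel, zpow_zero, zpow_one, one_mul, mul_one,
    zpow_neg_one] at h6 h8
  have e : q = (-1, -1) := Prod.ext h8 (by rw [inv_eq_iff_eq_inv] at h6; simpa using h6)
  rw [g1_apply, ← hh_eq_f1]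
  refine hq.trans ?_
  rw [e, X.hh_apply, T_apply]
  show Ok.tG chevG2 K _ = Ok.tG chevG2 K _
  congr 1
  funext i
  have he : Odd X.e := Odd.pow (by decide)
  rcases GTwoInv.fin_rank i with rfl | rfl
  · show ((-1 : Kˣ) ^ 2 * -1 : Kˣ) = (-1 : Kˣ) ^ X.e
    rw [he.neg_one_pow, neg_one_sq, one_mul]
  · show ((-1 : Kˣ) ^ 3 * (-1) ^ 2 : Kˣ) = -1
    rw [neg_one_sq, mul_one, (show Odd 3 by decide).neg_one_pow]

/-- The product of the two copies, into the fixed group. -/
noncomputable def psi : SL2K →* ↥X.G1 :=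
  MonoidHom.mk' (fun A => ⟨g1 A * g2 X A, by
      rw [X.G1_eq]
      refine ⟨mul_mem (g1_mem A) (X.sg_mem (g1_mem A)), ?_⟩
      rw [g2_apply, X.sg_mul (g1_mem A) (X.sg_mem (g1_mem A))]
      show g2 X A * X.sg (g2 X A) = g1 A * g2 X A
      rw [sg_g2, g1_g2]⟩) fun A B => Subtype.ext (by
    show g1 (A * B) * g2 X (A * B) = g1 A * g2 X A * (g1 B * g2 X B)
    rw [map_mul, map_mul, mul_assoc, mul_assoc, ← mul_assoc (g2 X A) (g1 B), ← g1_g2, mul_assoc])

/-- The involution. -/
noncomputable def hv : ↥X.G1 := ⟨X.hh (-1), X.hh_neg_one_mem⟩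

theorem hv_sg : X.sg (X.hh (-1)) = X.hh (-1) := (X.G1_le X.hh_neg_one_mem).2

theorem hv_psi (A : SL2K) : hv X * psi X A = psi X A * hv X := by
  apply Subtype.ext
  show X.hh (-1) * (g1 A * g2 X A) = g1 A * g2 X A * X.hh (-1)
  have h1 : X.hh (-1) * g1 A = g1 A * X.hh (-1) := by
    rw [← g1_dM_neg, g1_apply, g1_apply, ← hh_eq_f1]
    calc mb * hh * mb⁻¹ * (mb * f1 A * mb⁻¹) = mb * (hh * f1 A) * mb⁻¹ := by group
      _ = _ := by rw [hh_f1]; group
  have h2 : X.hh (-1) * g2 X A = g2 X A * X.hh (-1) := by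
    conv_lhs => rw [← hv_sg, g2_apply, ← X.sg_mul (X.G1_le X.hh_neg_one_mem).1 (g1_mem A), h1,
      X.sg_mul (g1_mem A) (X.G1_le X.hh_neg_one_mem).1, hv_sg]
    rw [← g2_apply]
  rw [← mul_assoc, h1, mul_assoc, h2, mul_assoc]

/-- An element whose image is central in the first copy is central. -/
theorem central_of {A : SL2K} (h : ∀ B, g1 A * g1 B = g1 B * g1 A) : A ∈ Subgroup.center SL2K :=
  Subgroup.mem_center_iff.2 fun B => g1_inj (by rw [map_mul, map_mul, h])

theorem g1_of_psi {A : SL2K} {v : GL chevG2.Idx K} (hv' : ∀ B, v * g1 B = g1 B * v)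
    (h : g1 A * g2 X A = v) : A ∈ Subgroup.center SL2K := by
  refine central_of fun B => ?_
  have e : g1 A = v * (g2 X A)⁻¹ := eq_mul_inv_of_mul_eq h
  have e2 : (g2 X A)⁻¹ * g1 B = g1 B * (g2 X A)⁻¹ := by rw [← map_inv, g1_g2]
  rw [e, mul_assoc, e2, ← mul_assoc, hv', mul_assoc]

theorem center_SL2 {A : SL2K} (hA : A ∈ Subgroup.center SL2K) : A = 1 ∨ A = dM (-1) := by
  obtain ⟨a, ha⟩ := scalar_of_commute (A := toG A) fun B => by
    rw [toG, toG, ← map_mul, ← map_mul, Subgroup.mem_center_iff.1 hA B]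
  have hc2 : a * a = 1 := by rw [← dl_glD a a, ← ha, dl_toG]
  have hc3 : (a : K) = 1 ∨ (a : K) = -1 :=
    mul_self_eq_one_iff.1 (by simpa using congrArg (fun u : Kˣ => (u : K)) hc2)
  rcases hc3 with h | h
  · left
    apply mat_inj
    rw [← toG_val, ha, glD_val, mat_one]
    ext i j; fin_cases i <;> fin_cases j <;> simp [h]
  · right
    apply mat_inj
    rw [← toG_val, ha, glD_val, mat_dM]
    ext i j; fin_cases i <;> fin_cases j <;> simp [h]

theorem psi_center {A : SL2K} (hA : A ∈ Subgroup.center SL2K) : psi X A = 1 := by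
  rcases center_SL2 hA with rfl | rfl
  · exact map_one _
  · apply Subtype.ext
    show g1 (dM (-1)) * g2 X (dM (-1)) = (1 : GL chevG2.Idx K)
    rw [g2_apply, g1_dM_neg X, hv_sg, ← map_mul, neg_one_mul, neg_neg, map_one]

theorem ker_psi : (psi X).ker = Subgroup.center SL2K := by
  refine le_antisymm (fun A hA => g1_of_psi X (v := 1) (fun B => by simp) (congrArg Subtype.val hA)) ?_
  exact fun A hA => psi_center X hA

theorem hv_ne_one : hv X ≠ 1 := fun h => by
  have h2 : X.hh (-1) = X.hh 1 := by rw [map_one]; exact congrArg Subtype.val h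
  have h3 := congrArg Units.val (X.hh_injective h2)
  haveI := neZero_two (F := K) (by rw [X.hK]; exact Odd.pow (by decide))
  exact two_ne_zero (α := K) (by simp at h3; linear_combination -h3)

theorem hv_notMem : hv X ∉ (psi X).range := by
  rintro ⟨A, hA⟩
  have hcentral : A ∈ Subgroup.center SL2K :=
    g1_of_psi X (v := X.hh (-1)) (fun B => by
      rw [← g1_dM_neg, g1_apply, g1_apply, ← hh_eq_f1]
      calc mb * hh * mb⁻¹ * (mb * f1 B * mb⁻¹) = mb * (hh * f1 B) * mb⁻¹ := by group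
        _ = _ := by rw [hh_f1]; group) (congrArg Subtype.val hA)
  exact hv_ne_one X (by rw [← hA, psi_center X hcentral])

theorem hv_sq : hv X * hv X = 1 :=
  Subtype.ext (by show X.hh (-1) * X.hh (-1) = 1; rw [← map_mul, neg_one_mul, neg_neg, map_one])

/-- The homomorphism `Z₂ →* G1` of the involution. -/
noncomputable def jv : Multiplicative (ZMod 2) →* ↥X.G1 where
  toFun z := if z = 1 then 1 else hv X
  map_one' := if_pos rfl
  map_mul' a b := by
    have h2 : ∀ c : Multiplicative (ZMod 2), c = 1 ∨ c = Multiplicative.ofAdd 1 := by decide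
    have hs : (Multiplicative.ofAdd (1 : ZMod 2)) * Multiplicative.ofAdd 1 = 1 := by decide
    have hne : (Multiplicative.ofAdd (1 : ZMod 2)) ≠ 1 := by decide
    rcases h2 a with rfl | rfl <;> rcases h2 b with rfl | rfl <;> simp [hs, hne, hv_sq]

theorem jv_one : jv X (Multiplicative.ofAdd 1) = hv X := by
  show (if (Multiplicative.ofAdd (1 : ZMod 2)) = 1 then 1 else hv X) = hv X
  exact if_neg (by decide)

/-- The quotient map. -/
noncomputable def psiBar : PSL2K →* ↥X.G1 :=
  QuotientGroup.lift _ (psi X) (ker_psi X).ge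

theorem psiBar_mk (A : SL2K) : psiBar X (QuotientGroup.mk A) = psi X A := rfl

theorem psiBar_inj : Function.Injective (psiBar X) := by
  refine (injective_iff_map_eq_one _).2 fun a ha => ?_
  obtain ⟨A, rfl⟩ := QuotientGroup.mk_surjective a
  rw [QuotientGroup.eq_one_iff, ← ker_psi X]
  exact ha

/-- The map onto the centralizer of the involution. -/
noncomputable def iota : Multiplicative (ZMod 2) × PSL2K →* ↥X.G1 :=
  MonoidHom.noncommCoprod (jv X) (psiBar X) fun z a => by
    obtain ⟨A, rfl⟩ := QuotientGroup.mk_surjective a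
    show jv X z * _ = _ * jv X z
    have h2 : ∀ c : Multiplicative (ZMod 2), c = 1 ∨ c = Multiplicative.ofAdd 1 := by decide
    rcases h2 z with rfl | rfl
    · simp
    · rw [jv_one, psiBar_mk, hv_psi]

theorem iota_inj : Function.Injective (iota X) := by
  refine (injective_iff_map_eq_one _).2 fun p hp => ?_
  have h2 : ∀ c : Multiplicative (ZMod 2), c = 1 ∨ c = Multiplicative.ofAdd 1 := by decide
  obtain ⟨z, a⟩ := p
  change jv X z * psiBar X a = 1 at hp
  rcases h2 z with rfl | rfl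
  · rw [map_one, one_mul] at hp
    rw [psiBar_inj X (hp.trans (map_one (psiBar X)).symm)]
    rfl
  · obtain ⟨A, rfl⟩ := QuotientGroup.mk_surjective a
    rw [jv_one, psiBar_mk] at hp
    exact absurd ⟨A⁻¹, by rw [map_inv, ← eq_inv_of_mul_eq_one_left hp]⟩ (hv_notMem X)

theorem iota_mem (p : Multiplicative (ZMod 2) × PSL2K) : iota X p ∈ Subgroup.centralizer {hv X} := by
  obtain ⟨z, a⟩ := p
  obtain ⟨A, rfl⟩ := QuotientGroup.mk_surjective a
  rw [Subgroup.mem_centralizer_singleton_iff]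
  show jv X z * psi X A * hv X = hv X * (jv X z * psi X A)
  have h2 : ∀ c : Multiplicative (ZMod 2), c = 1 ∨ c = Multiplicative.ofAdd 1 := by decide
  rcases h2 z with rfl | rfl
  · rw [map_one, one_mul, hv_psi]
  · rw [jv_one, mul_assoc, hv_psi]

/-- The fixed elements commuting with the involution, by parameters. -/
noncomputable def par : (K × Kˣ) ⊕ (K × Kˣ × K) → GL chevG2.Idx K :=
  Sum.elim (fun p => X.uu 0 p.1 0 * X.hh p.2) (fun p => X.uu 0 p.1 0 * X.hh p.2.1 * X.n0 * X.uu 0 p.2.2 0)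

theorem wab : X.wa (-1) = -1 ∧ X.wb (-1) = 1 := by
  have he : Odd (3 * X.e) := Odd.mul (by decide) (Odd.pow (by decide))
  constructor
  · rw [Cfsg.Lib.Chev.Ree.Ree.wa, neg_one_sq, he.neg_one_pow]
    simp
  · rw [Cfsg.Lib.Chev.Ree.Ree.wb, he.neg_one_pow, div_self']

theorem uu_fix {t u v : K} (h : X.hh (-1) * X.uu t u v * (X.hh (-1))⁻¹ = X.uu t u v) : t = 0 ∧ v = 0 := by
  haveI := neZero_two (F := K) (by rw [X.hK]; exact Odd.pow (by decide))
  rw [X.hh_conj_uu, (wab X).1, (wab X).2] at h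
  obtain ⟨h1, -, h3⟩ := X.uu_inj h
  simp at h1 h3
  exact ⟨(mul_eq_zero.1 (show (2 : K) * t = 0 by linear_combination -h1)).resolve_left two_ne_zero,
    (mul_eq_zero.1 (show (2 : K) * v = 0 by linear_combination -h3)).resolve_left two_ne_zero⟩

theorem hh_comm (s : Kˣ) : X.hh (-1) * X.hh s = X.hh s * X.hh (-1) := by
  rw [← map_mul, ← map_mul, mul_comm]

theorem n0_fix : X.hh (-1) * X.n0 = X.n0 * X.hh (-1) := by
  have hd := X.n0_conj' (X.hh_diag (-1))
  have hmem : X.n0⁻¹ * X.hh (-1) * X.n0 ∈ X.hh.range := by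
    rw [← X.H1_eq]
    exact Subgroup.mem_inf.2 ⟨hd, mul_mem (mul_mem (inv_mem X.n0_mem) X.hh_neg_one_mem) X.n0_mem⟩
  obtain ⟨s, hs⟩ := hmem
  have hs2 : s * s = 1 := X.hh_injective (by
    rw [map_mul, hs, show X.n0⁻¹ * X.hh (-1) * X.n0 * (X.n0⁻¹ * X.hh (-1) * X.n0) =
      X.n0⁻¹ * (X.hh (-1) * X.hh (-1)) * X.n0 by group, ← map_mul, neg_one_mul, neg_neg, map_one, mul_one,
      inv_mul_cancel])
  have hs1 : (s : K) = 1 ∨ (s : K) = -1 :=
    mul_self_eq_one_iff.1 (by simpa using congrArg (fun u : Kˣ => (u : K)) hs2)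
  rcases hs1 with h | h
  · exfalso
    rw [show s = 1 from Units.ext h, map_one] at hs
    apply hv_ne_one X
    apply Subtype.ext
    show X.hh (-1) = 1
    calc X.hh (-1) = X.n0 * (X.n0⁻¹ * X.hh (-1) * X.n0) * X.n0⁻¹ := by group
      _ = 1 := by rw [← hs]; group
  · rw [show s = -1 from Units.ext (by simpa using h)] at hs
    calc X.hh (-1) * X.n0 = X.n0 * (X.n0⁻¹ * X.hh (-1) * X.n0) := by group
      _ = _ := by rw [← hs]

theorem cent_le {g : GL chevG2.Idx K} (hg : g ∈ X.G1) (hc : X.hh (-1) * g = g * X.hh (-1)) :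
    ∃ p, par X p = g := by
  have hconj : X.hh (-1) * g * (X.hh (-1))⁻¹ = g := by rw [hc, mul_inv_cancel_right]
  have hfix : ∀ s, X.hh (-1) * X.hh s * (X.hh (-1))⁻¹ = X.hh s := fun s => by
    rw [hh_comm, mul_inv_cancel_right]
  have hU : ∀ t u v, X.hh (-1) * X.uu t u v * (X.hh (-1))⁻¹ ∈ chevG2.posUnipotent K := fun t u v => by
    rw [X.hh_conj_uu]; exact X.uu_mem_U _ _ _
  rcases X.Gs_cases (X.G1_le hg) with ⟨t, u, v, s, rfl⟩ | ⟨t, u, v, s, t', u', v', rfl⟩
  · have h : X.hh (-1) * X.uu t u v * (X.hh (-1))⁻¹ = X.uu t u v := by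
      refine mul_right_cancel (b := X.hh s) (Eq.trans ?_ hconj)
      conv_lhs => rw [← hfix s]
      group
    obtain ⟨rfl, rfl⟩ := uu_fix X h
    exact ⟨Sum.inl (u, s), rfl⟩
  · have hn : X.hh (-1) * X.n0 * (X.hh (-1))⁻¹ = X.n0 := by rw [n0_fix, mul_inv_cancel_right]
    have e : (X.hh (-1) * X.uu t u v * (X.hh (-1))⁻¹ * X.hh s) * X.n0 *
        (X.hh (-1) * X.uu t' u' v' * (X.hh (-1))⁻¹) = X.uu t u v * X.hh s * X.n0 * X.uu t' u' v' := by
      refine Eq.trans ?_ hconj
      conv_lhs => rw [← hfix s, ← hn]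
      group
    obtain ⟨e1, e2⟩ := X.unique
      (mul_mem (SG.B_le_of (hU t u v)) (Subgroup.mem_sup_right (X.hh_diag s)))
      (mul_mem (SG.B_le_of (X.uu_mem_U t u v)) (Subgroup.mem_sup_right (X.hh_diag s)))
      (hU t' u' v') (X.uu_mem_U t' u' v') e
    obtain ⟨rfl, rfl⟩ := uu_fix X (mul_right_cancel e1)
    obtain ⟨rfl, rfl⟩ := uu_fix X e2
    exact ⟨Sum.inr (u, s, u'), rfl⟩

theorem card_le : Nat.card ↥(Subgroup.centralizer {hv X}) ≤
    Fintype.card K * (Fintype.card K - 1) * (Fintype.card K + 1) := by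
  classical
  have hmem : ∀ p, par X p ∈ X.G1 := by
    rintro (⟨u, s⟩ | ⟨u, s, u'⟩)
    · exact mul_mem (X.uu_mem_G1 _ _ _) (X.hh_mem _)
    · exact mul_mem (mul_mem (mul_mem (X.uu_mem_G1 _ _ _) (X.hh_mem _)) X.n0_mem) (X.uu_mem_G1 _ _ _)
  choose f hf using fun g : ↥(Subgroup.centralizer {hv X}) =>
    cent_le X g.1.2 (congrArg Subtype.val (Subgroup.mem_centralizer_singleton_iff.1 g.2)).symm
  have hinj : Function.Injective f := fun a b h => by
    apply Subtype.ext
    apply Subtype.ext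
    rw [← hf a, h, hf b]
  refine (Nat.card_le_card_of_injective f hinj).trans_eq ?_
  rw [Nat.card_sum, Nat.card_prod, Nat.card_prod, Nat.card_prod, Nat.card_units, Nat.card_eq_fintype_card]
  ring

include X in
theorem card_PSL : 2 * Nat.card PSL2K = Fintype.card K * (Fintype.card K - 1) * (Fintype.card K + 1) := by
  classical
  haveI := neZero_two (F := K) (by rw [X.hK]; exact Odd.pow (by decide))
  have hZ : Nat.card ↥(Subgroup.center SL2K) = 2 := by
    rw [Nat.card_eq_two_iff]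
    refine ⟨⟨1, one_mem _⟩, ⟨dM (-1), Subgroup.mem_center_iff.2 fun B => ?_⟩, ?_, ?_⟩
    · apply mat_inj
      rw [mat_mul, mat_mul, mat_dM, Matrix.eta_fin_two (mat B)]
      ext i j; fin_cases i <;> fin_cases j <;> simp
    · intro h
      have h' := congrArg (fun p : ↥(Subgroup.center SL2K) => mat p.1 0 0) h
      simp [mat_dM, mat_one] at h'
      exact two_ne_zero (α := K) (by linear_combination h')
    · apply Set.eq_univ_of_forall
      rintro ⟨A, hA⟩
      rcases center_SL2 hA with rfl | rfl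
      · exact Or.inl rfl
      · exact Or.inr rfl
  have hsurj : Function.Surjective (dl (F := K)) := fun u => ⟨glD u 1, by rw [dl_glD, mul_one]⟩
  have hk := Subgroup.card_eq_card_quotient_mul_card_subgroup (dl (F := K)).ker
  have hiso : Nat.card SL2K = Nat.card ↥(dl (F := K)).ker := by
    refine Nat.card_congr (Equiv.ofBijective (fun A : SL2K => (⟨toG A, dl_toG A⟩ : ↥(dl (F := K)).ker))
      ⟨fun A B h => mat_inj (congrArg (fun C : ↥(dl (F := K)).ker =>
        ((C : GL (Fin 2) K) : Matrix (Fin 2) (Fin 2) K)) h), fun A => ?_⟩)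
    refine ⟨⟨((A : GL (Fin 2) K) : Matrix (Fin 2) (Fin 2) K), ?_⟩, Subtype.ext (Units.ext rfl)⟩
    rw [← Matrix.GeneralLinearGroup.val_det_apply]
    exact congrArg Units.val A.2
  rw [Nat.card_congr (QuotientGroup.quotientKerEquivOfSurjective _ hsurj).toEquiv, card_GL2, ← hiso,
    Nat.card_units, Nat.card_eq_fintype_card (α := K)] at hk
  have h2 : Nat.card SL2K = Nat.card PSL2K * Nat.card ↥(Subgroup.center SL2K) :=
    Subgroup.card_eq_card_quotient_mul_card_subgroup (Subgroup.center SL2K)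
  rw [hZ] at h2
  rw [mul_comm, ← h2]
  obtain ⟨k, hk'⟩ : ∃ k, Fintype.card K = k + 2 := Nat.exists_eq_add_of_le' (Fintype.one_lt_card (α := K))
  rw [hk'] at hk ⊢
  rw [show k + 2 - 1 = k + 1 by omega, show (k + 2) ^ 2 - 1 = (k + 1) * (k + 3) by
    rw [show (k + 2) ^ 2 = (k + 1) * (k + 3) + 1 by ring, Nat.add_sub_cancel]] at hk
  rw [show k + 2 - 1 = k + 1 by omega]
  refine Nat.eq_of_mul_eq_mul_left (show 0 < k + 1 by omega) (Eq.trans hk.symm ?_)
  ring

theorem range_iota : (iota X).range = Subgroup.centralizer {hv X} := by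
  refine Subgroup.eq_of_le_of_card_ge ?_ ?_
  · rintro g ⟨p, rfl⟩; exact iota_mem X p
  · refine (card_le X).trans_eq ?_
    rw [← card_PSL X, Nat.card_congr (MonoidHom.ofInjective (iota_inj X)).toEquiv.symm, Nat.card_prod]
    simp

/-- The centralizer of the involution. -/
noncomputable def centEquiv : ↥(Subgroup.centralizer {hv X}) ≃* Multiplicative (ZMod 2) × PSL2K :=
  (MulEquiv.subgroupCongr (range_iota X).symm).trans (MonoidHom.ofInjective (iota_inj X)).symm

theorem eq_hv {a : ↥X.G1} (haH : (a : GL chevG2.Idx K) ∈ chevG2.diagonalSubgroup K) (ha1 : a ≠ 1)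
    (ha2 : a * a = 1) : a = hv X := by
  have hm : (a : GL chevG2.Idx K) ∈ X.hh.range := X.H1_eq ▸ Subgroup.mem_inf.2 ⟨haH, a.2⟩
  obtain ⟨s, hs⟩ := hm
  have hs2 : s * s = 1 := X.hh_injective (by rw [map_mul, hs, map_one]; exact congrArg Subtype.val ha2)
  rcases (mul_self_eq_one_iff.1 (by simpa using congrArg (fun u : Kˣ => (u : K)) hs2) :
    (s : K) = 1 ∨ (s : K) = -1) with h | h
  · exact absurd (Subtype.ext (by rw [← hs, show s = 1 from Units.ext h, map_one]; rfl)) ha1
  · exact Subtype.ext (by rw [← hs, show s = -1 from Units.ext (by simpa using h)]; rfl)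

include X in
theorem q_mod : Fintype.card K % 8 = 3 := by
  rw [X.hK, pow_succ, pow_mul, Nat.mul_mod, Nat.pow_mod]
  norm_num

theorem card_G1_eq : Nat.card ↥X.G1 = Nat.card ↥(Subgroup.centralizer {hv X}) *
    (Fintype.card K ^ 2 * (Fintype.card K ^ 2 - Fintype.card K + 1)) := by
  have h2 : Nat.card (Multiplicative (ZMod 2)) = 2 := by simp
  rw [Nat.card_congr (centEquiv X).toEquiv, Nat.card_prod, h2, card_PSL X, X.card_G1]
  obtain ⟨k, hk⟩ : ∃ k, Fintype.card K = k + 2 := Nat.exists_eq_add_of_le' (Fintype.one_lt_card (α := K))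
  rw [hk, show (k + 2) ^ 2 - (k + 2) = (k + 2) * (k + 1) by
    rw [show (k + 2) ^ 2 = (k + 2) * (k + 1) + (k + 2) by ring, Nat.add_sub_cancel]]
  rw [show k + 2 - 1 = k + 1 by omega]
  ring

theorem index_cent : (Subgroup.centralizer {hv X}).index =
    Fintype.card K ^ 2 * (Fintype.card K ^ 2 - Fintype.card K + 1) :=
  mul_left_cancel₀ Nat.card_pos.ne' ((Subgroup.card_mul_index _).trans (card_G1_eq X))

theorem z2_sq : ∀ c : Multiplicative (ZMod 2), c * c = 1 := by decide

/-- A Sylow subgroup for a prime not dividing the index of the centralizer lies in a conjugate of it. -/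
theorem sylow_cent (r : ℕ) [Fact r.Prime] (h : ¬ r ∣ (Subgroup.centralizer {hv X}).index) (S : Sylow r ↥X.G1) :
    ∃ φ : ↥(S : Subgroup ↥X.G1) →* Multiplicative (ZMod 2) × PSL2K, Function.Injective φ := by
  obtain ⟨Q₀⟩ : Nonempty (Sylow r ↥(Subgroup.centralizer {hv X})) := inferInstance
  set R : Subgroup ↥X.G1 := (Q₀ : Subgroup ↥(Subgroup.centralizer {hv X})).map
    (Subgroup.centralizer {hv X}).subtype with hR
  have hRp : IsPGroup r R := Q₀.isPGroup'.map _
  have hidx : ¬ r ∣ R.index := by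
    rw [hR, Subgroup.index_map_subtype, (Fact.out : r.Prime).dvd_mul, not_or]
    exact ⟨Q₀.not_dvd_index, h⟩
  let e : ↥(S : Subgroup ↥X.G1) ≃* ↥R :=
    (Sylow.equiv S (hRp.toSylow hidx)).trans (MulEquiv.subgroupCongr rfl)
  refine ⟨((centEquiv X).toMonoidHom.comp (Subgroup.inclusion (Subgroup.map_subtype_le _))).comp e.toMonoidHom,
    ?_⟩
  exact ((centEquiv X).injective.comp (Subgroup.inclusion_injective _)).comp e.injective

theorem sylow_two (S : Sylow 2 ↥X.G1) : Nat.card S = 8 ∧ ∀ y ∈ S, y * y = 1 := by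
  classical
  haveI : Fact (Nat.Prime 2) := ⟨Nat.prime_two⟩
  have hq8 := q_mod X
  have hq : Odd (Fintype.card K) := by rw [X.hK]; exact Odd.pow (by decide)
  have hidx : ¬ 2 ∣ (Subgroup.centralizer {hv X}).index := by
    rw [index_cent, ← even_iff_two_dvd, Nat.not_even_iff_odd]
    refine hq.pow.mul ?_
    have he : Even (Fintype.card K ^ 2 - Fintype.card K) :=
      Nat.Odd.sub_odd hq.pow hq
    exact he.add_one
  refine ⟨?_, fun y hy => ?_⟩
  · rw [S.card_eq_multiplicity, X.card_G1]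
    have h1 : ¬ 2 ∣ Fintype.card K ^ 3 := by rw [← even_iff_two_dvd, Nat.not_even_iff_odd]; exact hq.pow
    obtain ⟨a, ha⟩ : ∃ a, Fintype.card K = 8 * a + 3 := ⟨Fintype.card K / 8, by omega⟩
    have e2 : (Fintype.card K - 1) * (Fintype.card K ^ 3 + 1) =
        2 ^ 3 * ((4 * a + 1) * (128 * a ^ 3 + 144 * a ^ 2 + 54 * a + 7)) := by
      rw [ha, show 8 * a + 3 - 1 = 2 * (4 * a + 1) by omega]; ring
    have hodd : ¬ 2 ∣ (4 * a + 1) * (128 * a ^ 3 + 144 * a ^ 2 + 54 * a + 7) := by
      rw [Nat.prime_two.dvd_mul]; omega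
    rw [mul_assoc, e2, Nat.factorization_mul (by positivity) (by positivity), Finsupp.add_apply,
      Nat.factorization_eq_zero_of_not_dvd h1, Nat.factorization_mul (by norm_num) (by positivity),
      Finsupp.add_apply, Nat.prime_two.factorization_pow, Nat.factorization_eq_zero_of_not_dvd hodd]
    simp
  · obtain ⟨φ, hφ⟩ := sylow_cent X 2 hidx S
    let W := (MonoidHom.snd (Multiplicative (ZMod 2)) PSL2K).comp φ
    have hW : IsPGroup 2 W.range := S.isPGroup'.of_surjective W.rangeRestrict W.rangeRestrict_surjective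
    obtain ⟨P, hP⟩ := hW.exists_le_sylow
    have hK4 := Cfsg.Lib.Classical.SLTwoTori.sylow_two_PSL_isKleinFour rfl (Or.inl hq8) P
    have hsq : ∀ w ∈ (P : Subgroup PSL2K), w * w = 1 := fun w hw => by
      have := Monoid.pow_exponent_eq_one (⟨w, hw⟩ : ↥(P : Subgroup PSL2K))
      rw [hK4.exponent_two, sq] at this
      exact congrArg Subtype.val this
    have h2 := z2_sq
    have : φ (⟨y, hy⟩ * ⟨y, hy⟩) = φ 1 := by
      rw [map_mul, map_one]
      exact Prod.ext (h2 _) (hsq _ (hP ⟨_, rfl⟩))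
    exact congrArg Subtype.val (hφ this)

theorem sylow_cyclic (hm : 1 ≤ X.m) {r : ℕ} [hr : Fact r.Prime] (h3 : 3 < r) (S : Sylow r ↥X.G1) :
    IsCyclic (S : Subgroup ↥X.G1) := by
  classical
  set q := Fintype.card K with hqdef
  have hq : q = 3 ^ (2 * X.m + 1) := X.hK
  have hrq : ¬ r ∣ q := fun h => by
    rw [hq] at h
    have := (Nat.prime_dvd_prime_iff_eq hr.out Nat.prime_three).1 (hr.out.dvd_of_dvd_pow h)
    omega
  have hr2 : r ≠ 2 := by omega
  by_cases hd : r ∣ q ^ 2 - q + 1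
  · -- inside a torus of the ambient group
    have hP : IsPGroup r ((S : Subgroup ↥X.G1).map (Subgroup.inclusion fun g hg => (X.G1_le hg).1)) :=
      S.isPGroup'.map _
    obtain ⟨P, hPle⟩ := hP.exists_le_sylow
    obtain ⟨e⟩ := Cfsg.Lib.Chev.Springer.sylow_data Cfsg.Lib.Chev.Springer.G2_dat Cfsg.Lib.Chev.inv_G2
      Cfsg.Lib.Chev.G2.poincare Cfsg.Lib.Chev.Springer.G2_natCard_WG (by decide) (by decide) (by decide)
      (fun r hr h => h.trans (one_dvd _)) (Cfsg.Lib.Chev.G2.card_torus rfl) hrq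
      (fun h => by
        have h12 : r ∣ 12 := by simpa using h
        have := Nat.le_of_dvd (by norm_num) h12
        interval_cases r <;> first | omega | exact absurd hr.out (by norm_num)) P
    have hord : orderOf (q : ZMod r) = 6 := by
      have hz : (q : ZMod r) ^ 2 - q + 1 = 0 := by
        have := (ZMod.natCast_eq_zero_iff (q ^ 2 - q + 1) r).2 hd
        rw [Nat.cast_add, Nat.cast_sub (Nat.le_self_pow (by norm_num) q)] at this
        simpa using this
      have h6 : (q : ZMod r) ^ 6 = 1 := by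
        linear_combination ((q : ZMod r) ^ 4 + (q : ZMod r) ^ 3 - (q : ZMod r) - 1) * hz
      have hdvd := orderOf_dvd_of_pow_eq_one h6
      have h3ne : (3 : ZMod r) ≠ 0 := fun h => by
        have := (ZMod.natCast_eq_zero_iff 3 r).1 (by exact_mod_cast h)
        have := Nat.le_of_dvd (by norm_num) this
        omega
      have h2ne : (2 : ZMod r) ≠ 0 := fun h => by
        have := (ZMod.natCast_eq_zero_iff 2 r).1 (by exact_mod_cast h)
        have := Nat.le_of_dvd (by norm_num) this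
        omega
      rcases (show orderOf (q : ZMod r) = 1 ∨ orderOf (q : ZMod r) = 2 ∨ orderOf (q : ZMod r) = 3 ∨
          orderOf (q : ZMod r) = 6 by
        have h6 := Nat.le_of_dvd (by norm_num) hdvd
        generalize orderOf (q : ZMod r) = d at hdvd h6
        interval_cases d <;> simp_all) with h | h | h | h
      · exfalso
        rw [orderOf_eq_one_iff] at h
        rw [h] at hz
        exact one_ne_zero (α := ZMod r) (by linear_combination hz)
      · exfalso
        have e := pow_orderOf_eq_one (q : ZMod r)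
        rw [h] at e
        rcases sq_eq_one_iff.1 e with h' | h' <;> rw [h'] at hz
        · exact one_ne_zero (α := ZMod r) (by linear_combination hz)
        · exact h3ne (by linear_combination hz)
      · exfalso
        have e := pow_orderOf_eq_one (q : ZMod r)
        rw [h] at e
        exact h2ne (by linear_combination ((q : ZMod r) + 1) * hz - e)
      · exact h
    have hlen : (([2, 6] : List ℕ).filter fun e => orderOf (q : ZMod r) ∣ e).length = 1 := by
      rw [hord]; decide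
    haveI : IsCyclic (Fin (([2, 6] : List ℕ).filter fun e => orderOf (Fintype.card K : ZMod r) ∣ e).length →
        Multiplicative (ZMod (r ^ padicValNat r
          ((Polynomial.cyclotomic (orderOf (Fintype.card K : ZMod r)) ℤ).eval (Fintype.card K : ℤ)).natAbs))) := by
      have hl : (([2, 6] : List ℕ).filter fun e => orderOf (Fintype.card K : ZMod r) ∣ e).length = 1 := hlen
      let k : Fin (([2, 6] : List ℕ).filter fun e => orderOf (Fintype.card K : ZMod r) ∣ e).length :=
        ⟨0, by omega⟩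
      refine isCyclic_of_injective (Pi.evalMonoidHom _ k) fun f g h => funext fun i => ?_
      have hi : i = k := Fin.ext (by have := i.isLt; show i.val = 0; omega)
      rw [hi]; exact h
    haveI : IsCyclic ↥(P : Subgroup ↥(chevG2.group K)) := isCyclic_of_surjective e.symm e.symm.surjective
    let ι : ↥(S : Subgroup ↥X.G1) →* ↥(P : Subgroup ↥(chevG2.group K)) :=
      ((Subgroup.inclusion fun g hg => (X.G1_le hg).1).comp (S : Subgroup ↥X.G1).subtype).codRestrict _
        fun s => hPle ⟨s, s.2, rfl⟩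
    refine isCyclic_of_injective ι fun a b h => ?_
    have h' := congrArg Subtype.val h
    exact Subtype.ext (Subgroup.inclusion_injective (fun g hg => (X.G1_le hg).1) h')
  · -- inside the centralizer of an involution
    have hidx : ¬ r ∣ (Subgroup.centralizer {hv X}).index := by
      rw [index_cent, hr.out.dvd_mul, not_or]
      exact ⟨fun h => hrq (hr.out.dvd_of_dvd_pow h), hd⟩
    obtain ⟨φ, hφ⟩ := sylow_cent X r hidx S
    let W := (MonoidHom.snd (Multiplicative (ZMod 2)) PSL2K).comp φ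
    have hWinj : Function.Injective W := by
      refine (injective_iff_map_eq_one _).2 fun y hy => hφ ?_
      rw [map_one]
      refine Prod.ext ?_ hy
      set z := (φ y).1 with hz
      have h1 : orderOf z ∣ 2 := orderOf_dvd_of_pow_eq_one (by
        rw [sq]; exact (show ∀ c : Multiplicative (ZMod 2), c * c = 1 by decide) z)
      obtain ⟨n, hn⟩ := IsPGroup.iff_orderOf.1 S.isPGroup' y
      have h2 : orderOf z ∣ r ^ n := by
        rw [← hn]
        exact (orderOf_map_dvd ((MonoidHom.fst _ _).comp φ) y)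
      exact orderOf_eq_one_iff.1 (Nat.eq_one_of_dvd_coprimes
        (Nat.Coprime.pow_right n ((Nat.coprime_primes Nat.prime_two hr.out).2 (by omega))) h1 h2)
    have hW : IsPGroup r W.range := S.isPGroup'.of_surjective W.rangeRestrict W.rangeRestrict_surjective
    -- a Sylow subgroup of `SL₂` covers it
    let π := QuotientGroup.mk' (Subgroup.center SL2K)
    obtain ⟨R₀⟩ : Nonempty (Sylow r SL2K) := inferInstance
    haveI : Fact (Nat.Prime 3) := ⟨Nat.prime_three⟩
    haveI := Cfsg.Lib.Chev.Ree.charP_three X.hK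
    have hcyc : IsCyclic ↥(R₀ : Subgroup SL2K) :=
      ((Cfsg.Lib.Classical.SLTwoTori.unique_sub 3 (by omega) (R₀ : Subgroup SL2K) R₀.isPGroup').resolve_right
        fun h => hr2 h.1)
    let R : Sylow r PSL2K := R₀.mapSurjective (QuotientGroup.mk'_surjective (Subgroup.center SL2K))
    haveI : IsCyclic ↥(R : Subgroup PSL2K) :=
      isCyclic_of_surjective (π.subgroupMap (R₀ : Subgroup SL2K)) (π.subgroupMap_surjective _)
    obtain ⟨P, hP⟩ := hW.exists_le_sylow
    haveI : IsCyclic ↥(P : Subgroup PSL2K) := isCyclic_of_surjective (Sylow.equiv R P) (Sylow.equiv R P).surjective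
    refine isCyclic_of_injective (W.codRestrict (P : Subgroup PSL2K) fun s => hP ⟨s, rfl⟩) fun a b h => ?_
    exact hWinj (congrArg Subtype.val h)

end Cfsg.Lib.GTwoOdd.ReeInv
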