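import Cfsg.Agent.Chev.GTwoOdd.Invol

/-! The two copies of `SL₂` inside the centralizer of an involution. -/

set_option autoImplicit false

open Cfsg.Lie

namespace Cfsg.Lib.GTwoOdd

open Cfsg.Lib.Chev

variable {F : Type*} [Field F] [Fintype F]

local notation "SL2F" => Matrix.SpecialLinearGroup (Fin 2) F

omit [Fintype F] in
theorem f1_mem (X : SL2F) : f1 X ∈ chevG2.group F :=
  Phi_j1 X ▸ (Subgroup.mem_inf.1 (Phi_mem (j1 X))).1

omit [Fintype F] in
theorem f2_mem (X : SL2F) : f2 X ∈ chevG2.group F :=
  Phi_j2 X ▸ (Subgroup.mem_inf.1 (Phi_mem (j2 X))).1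

theorem cent_struct [NeZero (2 : F)] {t : ↥(chevG2.group F)} (a : ↥(chevG2.group F))
    (ha : a * t * a⁻¹ = ⟨hh, hh_mem⟩) :
    Nat.card (Subgroup.centralizer ({t} : Set ↥(chevG2.group F))) =
        Fintype.card F ^ 2 * (Fintype.card F ^ 2 - 1) ^ 2 ∧
      ∃ L₁ L₂ : Subgroup ↥(chevG2.group F), Nonempty (L₁ ≃* SL2F) ∧ Nonempty (L₂ ≃* SL2F) ∧
        (∀ x ∈ L₁, ∀ y ∈ L₂, x * y = y * x) ∧ L₁ ⊓ L₂ = Subgroup.zpowers t ∧
        L₁ ⊔ L₂ ≤ Subgroup.centralizer ({t} : Set ↥(chevG2.group F)) ∧
        (L₁ ⊔ L₂).relIndex (Subgroup.centralizer ({t} : Set ↥(chevG2.group F))) = 2 := by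
  classical
  let e : ↥(chevG2.group F) ≃* ↥(chevG2.group F) := MulAut.conj a⁻¹
  have het : e ⟨hh, hh_mem⟩ = t := by
    show a⁻¹ * _ * a⁻¹⁻¹ = t
    rw [← ha]; group
  let g1 : SL2F →* ↥(chevG2.group F) := e.toMonoidHom.comp (f1.codRestrict _ f1_mem)
  let g2 : SL2F →* ↥(chevG2.group F) := e.toMonoidHom.comp (f2.codRestrict _ f2_mem)
  have i1 : Function.Injective g1 := fun X Y h => f1_inj (congrArg Subtype.val (e.injective h))
  have i2 : Function.Injective g2 := fun X Y h => f2_inj (congrArg Subtype.val (e.injective h))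
  have hcomm : ∀ X Y, g1 X * g2 Y = g2 Y * g1 X := fun X Y => by
    show e _ * e _ = e _ * e _
    rw [← map_mul e, ← map_mul e]
    exact congrArg e (Subtype.ext (f1_f2 X Y))
  have hC : ∀ y, e y ∈ Subgroup.centralizer ({t} : Set ↥(chevG2.group F)) ↔ y ∈ CG F := fun y => by
    rw [CG, Subgroup.mem_centralizer_singleton_iff, Subgroup.mem_centralizer_singleton_iff, ← het,
      ← map_mul e, ← map_mul e, e.injective.eq_iff]
  have hcard : Nat.card (Subgroup.centralizer ({t} : Set ↥(chevG2.group F))) =
      Fintype.card F ^ 2 * (Fintype.card F ^ 2 - 1) ^ 2 := by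
    rw [← card_CG]
    refine (Nat.card_congr (e.toEquiv.subtypeEquiv fun y => ?_)).symm
    exact (hC y).symm
  refine ⟨hcard, g1.range, g2.range, ⟨(MonoidHom.ofInjective i1).symm⟩, ⟨(MonoidHom.ofInjective i2).symm⟩,
    ?_, ?_, ?_, ?_⟩
  · rintro _ ⟨X, rfl⟩ _ ⟨Y, rfl⟩; exact hcomm X Y
  · -- the intersection
    apply le_antisymm
    · rintro w ⟨⟨X, hX⟩, ⟨Y, hY⟩⟩
      have hXY : f1 X = f2 Y := congrArg Subtype.val (e.injective (hX.trans hY.symm))
      have h1 : Phi (j1 X * j2 Y⁻¹) = 1 := by
        rw [map_mul, Phi_j1, Phi_j2, hXY, map_inv, mul_inv_cancel]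
      obtain ⟨c, hc⟩ := (Phi_eq_one_iff _).1 h1
      have hcX : toG X = glD c c := by
        have := congrArg Prod.fst hc
        simpa [j1, j2] using this
      have hc2 : c * c = 1 := by rw [← dl_glD c c, ← hcX, dl_toG]
      have hc3 : c = 1 ∨ c = -1 := by
        have h3 : ((c : F) - 1) * ((c : F) + 1) = 0 := by
          have := congrArg (fun u : Fˣ => (u : F)) hc2
          simp at this
          linear_combination this
        rcases mul_eq_zero.1 h3 with h | h
        · exact Or.inl (Units.ext (sub_eq_zero.1 h))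
        · exact Or.inr (Units.ext (by push_cast; linear_combination h))
      rcases hc3 with rfl | rfl
      · have : X = 1 := by
          apply mat_inj
          rw [← toG_val, hcX, glD_val, mat_one]
          ext i j; fin_cases i <;> fin_cases j <;> simp
        rw [← hX, this, map_one]
        exact one_mem _
      · have : X = dM (-1) := by
          apply mat_inj
          rw [← toG_val, hcX, glD_val, mat_dM]
          ext i j; fin_cases i <;> fin_cases j <;> simp
        rw [← hX, this, show g1 (dM (-1)) = t by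
          rw [← het]; exact congrArg e (Subtype.ext hh_eq_f1.symm)]
        exact Subgroup.mem_zpowers t
    · rw [Subgroup.zpowers_le]
      refine ⟨⟨dM (-1), ?_⟩, ⟨dM (-1), ?_⟩⟩
      · rw [← het]; exact congrArg e (Subtype.ext hh_eq_f1.symm)
      · rw [← het]; exact congrArg e (Subtype.ext (f2_dM (-1)))
  · refine sup_le ?_ ?_
    · rintro _ ⟨X, rfl⟩
      exact (hC _).2 (Subgroup.mem_centralizer_singleton_iff.2 (Subtype.ext (hh_f1 X).symm))
    · rintro _ ⟨X, rfl⟩
      exact (hC _).2 (Subgroup.mem_centralizer_singleton_iff.2 (Subtype.ext (hh_f2 X).symm))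
  · -- the index
    let m : SL2F × SL2F →* ↥(chevG2.group F) :=
      MonoidHom.noncommCoprod g1 g2 fun X Y => hcomm X Y
    have hm : m.range = g1.range ⊔ g2.range := MonoidHom.noncommCoprod_range _ _ _
    rw [← hm]
    have hker : Nat.card ↥m.ker = 2 := by
      rw [Nat.card_eq_two_iff]
      have hb : g1 (dM (-1)) * g2 (dM (-1)) = 1 := by
        have e1 : g1 (dM (-1)) = t := by rw [← het]; exact congrArg e (Subtype.ext hh_eq_f1.symm)
        have e2 : g2 (dM (-1)) = t := by rw [← het]; exact congrArg e (Subtype.ext (f2_dM (-1)))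
        rw [e1, e2, ← het, ← map_mul e, ← map_one e]
        congr 1
        apply Subtype.ext
        show hh * hh = (1 : GL chevG2.Idx F)
        rw [hh, ← map_mul, ← map_one T]
        congr 1
        exact Prod.ext (mul_one _) (Units.ext (by simp))
      refine ⟨⟨1, one_mem _⟩, ⟨(dM (-1), dM (-1)), hb⟩, ?_, ?_⟩
      · intro h
        have h' := congrArg (fun p : ↥m.ker => mat p.1.1 0 0) h
        simp [mat_dM, mat_one] at h'
        exact two_ne_zero (α := F) (by linear_combination h')
      · apply Set.eq_univ_of_forall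
        rintro ⟨⟨X, Y⟩, hXY⟩
        have h0 : g1 X * g2 Y = 1 := hXY
        have h1 : Phi (j1 X * j2 Y) = 1 := by
          rw [map_mul, Phi_j1, Phi_j2]
          have h2 : e (⟨f1 X, f1_mem X⟩ * ⟨f2 Y, f2_mem Y⟩) = e 1 := by rw [map_mul e, map_one e]; exact h0
          exact congrArg Subtype.val (e.injective h2)
        obtain ⟨c, hc⟩ := (Phi_eq_one_iff _).1 h1
        have hcX : toG X = glD c c := by simpa [j1, j2] using congrArg Prod.fst hc
        have hcY : toG Y = glD c c := by simpa [j1, j2] using congrArg Prod.snd hc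
        have hc2 : c * c = 1 := by rw [← dl_glD c c, ← hcX, dl_toG]
        have hc3 : (c : F) = 1 ∨ (c : F) = -1 := by
          have h3 : ((c : F) - 1) * ((c : F) + 1) = 0 := by
            have := congrArg (fun u : Fˣ => (u : F)) hc2
            simp at this
            linear_combination this
          rcases mul_eq_zero.1 h3 with h | h
          · exact Or.inl (sub_eq_zero.1 h)
          · exact Or.inr (eq_neg_of_add_eq_zero_left h)
        rcases hc3 with h | h
        · left
          refine Subtype.ext (Prod.ext ?_ ?_) <;> apply mat_inj <;> rw [← toG_val, ← toG_val]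
          · rw [hcX]; ext i j; fin_cases i <;> fin_cases j <;> simp [glD_val, toG_val, mat_one, h]
          · rw [hcY]; ext i j; fin_cases i <;> fin_cases j <;> simp [glD_val, toG_val, mat_one, h]
        · right
          refine Subtype.ext (Prod.ext ?_ ?_) <;> apply mat_inj <;> rw [← toG_val, ← toG_val]
          · rw [hcX]; ext i j; fin_cases i <;> fin_cases j <;> simp [glD_val, toG_val, mat_dM, h]
          · rw [hcY]; ext i j; fin_cases i <;> fin_cases j <;> simp [glD_val, toG_val, mat_dM, h]
    have hle : m.range ≤ Subgroup.centralizer ({t} : Set ↥(chevG2.group F)) := by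
      rw [hm]
      refine sup_le ?_ ?_
      · rintro _ ⟨X, rfl⟩
        exact (hC _).2 (Subgroup.mem_centralizer_singleton_iff.2 (Subtype.ext (hh_f1 X).symm))
      · rintro _ ⟨X, rfl⟩
        exact (hC _).2 (Subgroup.mem_centralizer_singleton_iff.2 (Subtype.ext (hh_f2 X).symm))
    have h1 := Subgroup.card_eq_card_quotient_mul_card_subgroup m.ker
    rw [Nat.card_congr (QuotientGroup.quotientKerEquivRange m).toEquiv, hker, Nat.card_prod] at h1
    have h2 := Subgroup.card_mul_index (m.range.subgroupOf (Subgroup.centralizer ({t} : Set ↥(chevG2.group F))))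
    rw [Nat.card_congr (Subgroup.subgroupOfEquivOfLe hle).toEquiv, hcard] at h2
    change Nat.card ↥m.range * m.range.relIndex _ = _ at h2
    -- the order of `SL₂`
    have h3 : Nat.card SL2F = Fintype.card F * (Fintype.card F ^ 2 - 1) := by
      have hk := Subgroup.card_eq_card_quotient_mul_card_subgroup (dl (F := F)).ker
      have hsurj : Function.Surjective (dl (F := F)) := fun u => ⟨glD u 1, by rw [dl_glD, mul_one]⟩
      have hiso : Nat.card SL2F = Nat.card ↥(dl (F := F)).ker := by
        refine Nat.card_congr (Equiv.ofBijective (fun X : SL2F => (⟨toG X, dl_toG X⟩ : ↥(dl (F := F)).ker))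
          ⟨fun X Y h => mat_inj (congrArg (fun A : ↥(dl (F := F)).ker =>
            ((A : GL (Fin 2) F) : Matrix (Fin 2) (Fin 2) F)) h), fun A => ?_⟩)
        refine ⟨⟨((A : GL (Fin 2) F) : Matrix (Fin 2) (Fin 2) F), ?_⟩, Subtype.ext (Units.ext rfl)⟩
        rw [← Matrix.GeneralLinearGroup.val_det_apply]
        exact congrArg Units.val A.2
      rw [Nat.card_congr (QuotientGroup.quotientKerEquivOfSurjective _ hsurj).toEquiv, card_GL2, ← hiso,
        Nat.card_units, Nat.card_eq_fintype_card (α := F)] at hk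
      have hq1 : 0 < Fintype.card F - 1 := Nat.sub_pos_of_lt (Fintype.one_lt_card (α := F))
      exact (Nat.eq_of_mul_eq_mul_left hq1 (by rw [← hk]; ring))
    rw [h3] at h1
    have hne : Nat.card ↥m.range ≠ 0 := Nat.card_pos.ne'
    refine mul_left_cancel₀ hne ?_
    rw [h2, ← h1]
    ring

end Cfsg.Lib.GTwoOdd
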