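import Cfsg.Agent.Chev.GTwoInv.Cent
import Cfsg.Agent.Chev.LevG2
import Cfsg.Agent.Chev.WeightsBase

/-! The torus of `G₂` parametrised by the values of the two fundamental roots. -/

set_option autoImplicit false

open Cfsg.Lie

namespace Cfsg.Lib.GTwoOdd

open Cfsg.Lib.Chev
open Cfsg.Lib.GTwoInv (S2 half_eq x i0 i1 words wv wv_lt exists_word_rep)

variable {F : Type*} [Field F]

/-- The coefficient of the short fundamental root. -/
def cA (r : ℕ) : ℤ := 2 * chevG2.cartan 0 r + 3 * chevG2.cartan 1 r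

/-- The coefficient of the long fundamental root. -/
def cB (r : ℕ) : ℤ := chevG2.cartan 0 r + 2 * chevG2.cartan 1 r

theorem coeff_vals : (List.range 12).map (fun r => (cA r, cB r)) =
    [(-3, -2), (-3, -1), (-2, -1), (-1, -1), (-1, 0), (0, -1), (0, 1), (1, 0), (1, 1), (2, 1), (3, 1), (3, 2)] := by
  decide +kernel

/-- Torus coordinates of the point with root values `u`, `v`. -/
def coord (p : Fˣ × Fˣ) (i : Fin chevG2.rank) : Fˣ :=
  if i.val = 0 then p.1 ^ 2 * p.2 else p.1 ^ 3 * p.2 ^ 2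

theorem coord_mul (p q : Fˣ × Fˣ) : coord (p * q) = coord p * coord q := by
  funext i
  rw [Pi.mul_apply]
  unfold coord
  split_ifs <;> simp [mul_pow, mul_mul_mul_comm]

/-- The torus element on which the two fundamental roots take the values `u`, `v`. -/
noncomputable def T : Fˣ × Fˣ →* GL chevG2.Idx F :=
  (Ok.tG chevG2 F).comp (MonoidHom.mk' coord coord_mul)

theorem T_apply (p : Fˣ × Fˣ) : T p = Ok.tG chevG2 F (coord p) := rfl

theorem T_mem_diag (p : Fˣ × Fˣ) : T p ∈ chevG2.diagonalSubgroup F := by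
  rw [S2.ok.diagonalSubgroup_eq]; exact ⟨_, rfl⟩

theorem T_mem_group (p : Fˣ × Fˣ) : T p ∈ chevG2.group F := S2.diag_le_group (T_mem_diag p)

theorem T_conj {r : ℕ} (hr : r < 12) (p : Fˣ × Fˣ) (t : F) :
    T p * x r t * (T p)⁻¹ = x r (((p.1 ^ cA r * p.2 ^ cB r : Fˣ) : F) * t) := by
  have h := S2.tG_conj_xG (F := F) (s := r) (half_eq.2.symm ▸ hr) (coord p) t
  have e : (∏ i : Fin chevG2.rank, coord p i ^ chevG2.cartan i r : Fˣ) = p.1 ^ cA r * p.2 ^ cB r := by
    refine (Fin.prod_univ_two (f := fun i : Fin 2 => coord p i ^ chevG2.cartan i r)).trans ?_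
    show (p.1 ^ 2 * p.2) ^ chevG2.cartan 0 r * (p.1 ^ 3 * p.2 ^ 2) ^ chevG2.cartan 1 r = _
    simp only [mul_zpow, ← zpow_natCast, ← zpow_mul, cA, cB, zpow_add]
    rw [mul_mul_mul_comm]
    simp
  rw [e] at h
  exact h

theorem x_inj {r : ℕ} (hr : r < 12) {s t : F} (h : x r s = x r t) : s = t := by
  have h2 : x r (s - t) = 1 := by
    rw [sub_eq_add_neg, ← GTwoInv.x_add, h, GTwoInv.x_add, add_neg_cancel, GTwoInv.x_zero]
  exact sub_eq_zero.1 (S2.xG_eq_one (half_eq.2.symm ▸ hr) h2)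

theorem T_inj : Function.Injective (T : Fˣ × Fˣ → GL chevG2.Idx F) := by
  intro p q h
  have key : ∀ r : ℕ, r < 12 → p.1 ^ cA r * p.2 ^ cB r = q.1 ^ cA r * q.2 ^ cB r := fun r hr => by
    have h1 := T_conj hr p (1 : F)
    rw [h, T_conj hr q] at h1
    have h2 := x_inj hr h1
    simp only [mul_one] at h2
    exact Units.ext h2.symm
  have h7 := key 7 (by norm_num)
  have h6 := key 6 (by norm_num)
  rw [show cA 7 = 1 by decide +kernel, show cB 7 = 0 by decide +kernel] at h7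
  rw [show cA 6 = 0 by decide +kernel, show cB 6 = 1 by decide +kernel] at h6
  simp at h7 h6
  exact Prod.ext h7 h6

theorem exists_T {d : GL chevG2.Idx F} (hd : d ∈ chevG2.diagonalSubgroup F) : ∃ p, d = T p := by
  rw [S2.ok.diagonalSubgroup_eq] at hd
  obtain ⟨c, rfl⟩ := hd
  let c' : Fin 2 → Fˣ := c
  refine ⟨(c' 0 ^ 2 * (c' 1)⁻¹, (c' 0)⁻¹ ^ 3 * c' 1 ^ 2), congrArg _ ?_⟩
  funext i
  rcases GTwoInv.fin_rank i with rfl | rfl
  · show c' 0 = (c' 0 ^ 2 * (c' 1)⁻¹) ^ 2 * ((c' 0)⁻¹ ^ 3 * c' 1 ^ 2)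
    apply Units.ext; push_cast; field_simp
  · show c' 1 = (c' 0 ^ 2 * (c' 1)⁻¹) ^ 3 * ((c' 0)⁻¹ ^ 3 * c' 1 ^ 2) ^ 2
    apply Units.ext; push_cast; field_simp

theorem card_torus [Fintype F] :
    Nat.card ↥(chevG2.diagonalSubgroup F) = (Fintype.card F - 1) ^ 2 := by
  classical
  have e : Nat.card (Fˣ × Fˣ) = Nat.card ↥(chevG2.diagonalSubgroup F) := by
    refine Nat.card_congr (Equiv.ofBijective (fun p => (⟨T p, T_mem_diag p⟩ : chevG2.diagonalSubgroup F))
      ⟨fun p q h => T_inj (congrArg Subtype.val h), fun d => ?_⟩)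
    obtain ⟨p, hp⟩ := exists_T d.2
    exact ⟨p, Subtype.ext hp.symm⟩
  rw [← e, Nat.card_prod, Nat.card_units, Nat.card_eq_fintype_card, sq]

theorem card_chevG2 [Fintype F] :
    Nat.card ↥(chevG2.group F) = Fintype.card F ^ 6 * ((Fintype.card F ^ 2 - 1) * (Fintype.card F ^ 6 - 1)) := by
  have h := S2.order_formula (F := F) okNeg_G2 G2.poincare (d := 1) rfl
    (by rw [one_mul, card_torus]; rfl)
  rw [one_mul, half_eq.1] at h
  simpa using h

end Cfsg.Lib.GTwoOdd
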